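import Mathlib
import Cfsg.Agent.Compute.Perm

/-!
# Linear maps on twenty bits, packed into natural numbers

Field `i` of width twenty of a code is the image of the `i`th unit vector.
-/

set_option autoImplicit false

namespace Cfsg.Agent.U62Mod

open Cfsg.Agent.Compute

/-- Whether bit `k` of `v` is set. -/
noncomputable def bitB (v k : ℕ) : Bool := Nat.beq (Nat.mod (Nat.shiftRight v k) 2) 1

/-- The image of a vector under a coded linear map. -/
noncomputable def app (M v : ℕ) : ℕ :=
  Nat.rec (motive := fun _ => ℕ) 0 (fun k r => cond (bitB v k) (Nat.xor r (getField 20 M k)) r) 20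

/-- The product of coded linear maps. -/
noncomputable def mulM (M N : ℕ) : ℕ := pack 20 20 fun i => app M (getField 20 N i)

/-- The sum of coded linear maps. -/
noncomputable def addM (M N : ℕ) : ℕ := Nat.xor M N

/-- The identity. -/
noncomputable def idM : ℕ := pack 20 20 fun i => Nat.shiftLeft 1 i

/-- The code along a word. -/
noncomputable def evalM (Ms : List ℕ) (wd : List ℕ) : ℕ :=
  List.rec (motive := fun _ => ℕ) idM (fun s _ r => mulM (Ms.getD s 0) r) wd

theorem bitB_eq (v k : ℕ) : bitB v k = v.testBit k := by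
  rw [bitB, Bool.eq_iff_iff, Nat.beq_eq, Nat.testBit_eq_decide_div_mod_eq]
  simp [Nat.shiftRight_eq_div_pow, show ∀ a b : ℕ, Nat.mod a b = a % b from fun _ _ => rfl,
    show ∀ a b : ℕ, Nat.shiftRight a b = a >>> b from fun _ _ => rfl]

/-- The partial sums of `app`. -/
theorem app_rec_xor (M a b : ℕ) : ∀ n : ℕ,
    (Nat.rec (motive := fun _ => ℕ) 0 (fun k r => cond (bitB (a ^^^ b) k) (Nat.xor r (getField 20 M k)) r) n) =
      (Nat.rec (motive := fun _ => ℕ) 0 (fun k r => cond (bitB a k) (Nat.xor r (getField 20 M k)) r) n) ^^^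
      (Nat.rec (motive := fun _ => ℕ) 0 (fun k r => cond (bitB b k) (Nat.xor r (getField 20 M k)) r) n)
  | 0 => (Nat.xor_self 0).symm
  | n + 1 => by
    show cond (bitB (a ^^^ b) n) _ _ = cond (bitB a n) _ _ ^^^ cond (bitB b n) _ _
    have ih := app_rec_xor M a b n
    rw [bitB_eq (a ^^^ b), bitB_eq a, bitB_eq b, Nat.testBit_xor, ih]
    cases a.testBit n <;> cases b.testBit n <;>
      simp [show ∀ x y : ℕ, Nat.xor x y = x ^^^ y from fun _ _ => rfl, Nat.xor_assoc, Nat.xor_comm,
        Nat.xor_left_comm]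

theorem app_xor (M a b : ℕ) : app M (a ^^^ b) = app M a ^^^ app M b := app_rec_xor M a b 20

theorem app_zero (M : ℕ) : app M 0 = 0 := by
  have h := app_xor M 0 0
  simpa using h

theorem app_lt (M v : ℕ) : app M v < 2 ^ 20 := by
  suffices h : ∀ n : ℕ, (Nat.rec (motive := fun _ => ℕ) 0
      (fun k r => cond (bitB v k) (Nat.xor r (getField 20 M k)) r) n) < 2 ^ 20 from h 20
  intro n
  induction n with
  | zero => exact Nat.two_pow_pos 20
  | succ n ih =>
    show cond (bitB v n) _ _ < 2 ^ 20
    cases bitB v n with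
    | false => exact ih
    | true => exact Nat.xor_lt_two_pow ih (getField_lt 20 M n)

/-- A vector is the sum of its unit vectors: additive maps agreeing on units agree. -/
theorem ext_units {G : Type*} [Monoid G] {f g : ℕ → G} (h0 : f 0 = g 0)
    (hf : ∀ a b, a < 2 ^ 20 → b < 2 ^ 20 → f (a ^^^ b) = f a * f b)
    (hg : ∀ a b, a < 2 ^ 20 → b < 2 ^ 20 → g (a ^^^ b) = g a * g b)
    (h : ∀ k, k < 20 → f (2 ^ k) = g (2 ^ k)) {v : ℕ} (hv : v < 2 ^ 20) : f v = g v := by
  suffices H : ∀ n, n ≤ 20 → ∀ v, v < 2 ^ n → f v = g v from H 20 le_rfl v hv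
  intro n
  induction n with
  | zero => intro _ v hv; rw [show v = 0 by simpa using hv, h0]
  | succ n ih =>
    intro hn v hv
    by_cases hlt : v < 2 ^ n
    · exact ih (by omega) v hlt
    · have h2 : (v ^^^ 2 ^ n) < 2 ^ n := by
        refine Nat.lt_pow_two_of_testBit _ fun i hi => ?_
        rw [Nat.testBit_xor, Nat.testBit_two_pow]
        rcases hi.lt_or_eq with hi' | rfl
        · rw [Nat.testBit_lt_two_pow (lt_of_lt_of_le hv (Nat.pow_le_pow_right two_pos hi'))]
          simp [hi'.ne]
        · have : v.testBit n = true := by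
            rw [Nat.testBit_eq_decide_div_mod_eq, decide_eq_true_eq]
            have h1 : v / 2 ^ n < 2 := by
              rw [Nat.div_lt_iff_lt_mul (Nat.two_pow_pos n), ← Nat.pow_succ']; exact hv
            have h3 : 1 ≤ v / 2 ^ n := (Nat.one_le_div_iff (Nat.two_pow_pos n)).2 (by omega)
            omega
          simp [this]
      have hp : 2 ^ n < 2 ^ 20 := Nat.pow_lt_pow_right one_lt_two (by omega)
      have h3 := h2.trans hp
      rw [show v = (v ^^^ 2 ^ n) ^^^ 2 ^ n by rw [Nat.xor_assoc, Nat.xor_self, Nat.xor_zero],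
        hf _ _ h3 hp, hg _ _ h3 hp, ih (by omega) _ h2, h n (by omega)]

theorem app_ext {f : ℕ → ℕ} (M : ℕ) (hf : ∀ a b, a < 2 ^ 20 → b < 2 ^ 20 → f (a ^^^ b) = f a ^^^ f b)
    (h : ∀ k, k < 20 → f (2 ^ k) = app M (2 ^ k)) {v : ℕ} (hv : v < 2 ^ 20) : f v = app M v := by
  have h0 : f 0 = 0 := by simpa using hf 0 0 (Nat.two_pow_pos 20) (Nat.two_pow_pos 20)
  by_contra hne
  obtain ⟨i, hi⟩ : ∃ i, (f v).testBit i ≠ (app M v).testBit i := by
    by_contra hc
    push Not at hc
    exact hne (Nat.eq_of_testBit_eq hc)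
  have e := ext_units (G := Multiplicative (ZMod 2))
    (f := fun v => Multiplicative.ofAdd (if (f v).testBit i then (1 : ZMod 2) else 0))
    (g := fun v => Multiplicative.ofAdd (if (app M v).testBit i then (1 : ZMod 2) else 0))
    (by simp [h0, app_zero])
    (fun a b ha hb => by
      simp only [hf a b ha hb, Nat.testBit_xor]
      rcases Bool.eq_false_or_eq_true ((f a).testBit i) with h1 | h1 <;>
        rcases Bool.eq_false_or_eq_true ((f b).testBit i) with h2 | h2 <;> rw [h1, h2] <;> decide)
    (fun a b _ _ => by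
      simp only [app_xor, Nat.testBit_xor]
      rcases Bool.eq_false_or_eq_true ((app M a).testBit i) with h1 | h1 <;>
        rcases Bool.eq_false_or_eq_true ((app M b).testBit i) with h2 | h2 <;> rw [h1, h2] <;> decide)
    (fun k hk => by simp only [h k hk]) hv
  rcases Bool.eq_false_or_eq_true ((f v).testBit i) with h1 | h1 <;>
    rcases Bool.eq_false_or_eq_true ((app M v).testBit i) with h2 | h2 <;> rw [h1, h2] at e hi <;>
    first | exact hi rfl | exact absurd e (by decide)

theorem app_two_pow (M : ℕ) {k : ℕ} (hk : k < 20) : app M (2 ^ k) = getField 20 M k := by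
  suffices h : ∀ n : ℕ, (Nat.rec (motive := fun _ => ℕ) 0
      (fun j r => cond (bitB (2 ^ k) j) (Nat.xor r (getField 20 M j)) r) n) =
      if k < n then getField 20 M k else 0 by
    rw [app, h 20, if_pos hk]
  intro n
  induction n with
  | zero => simp
  | succ n ih =>
    show cond (bitB (2 ^ k) n) _ _ = _
    rw [bitB_eq, Nat.testBit_two_pow, ih]
    rcases lt_trichotomy k n with h | rfl | h
    · simp [h, h.ne, h.trans n.lt_succ_self]
    · simp [show ∀ x : ℕ, Nat.xor 0 x = x from Nat.zero_xor]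
    · simp [h.ne', show ¬ k < n by omega, show ¬ k < n + 1 by omega]

theorem app_mulM (M N : ℕ) {v : ℕ} (hv : v < 2 ^ 20) : app (mulM M N) v = app M (app N v) := by
  refine (app_ext (f := fun v => app M (app N v)) (mulM M N) (fun a b _ _ => by simp only [app_xor]) ?_ hv).symm
  intro k hk
  rw [app_two_pow _ hk, app_two_pow _ hk, mulM, getField_pack 20 20 _ (fun i _ => app_lt _ _) hk]

theorem app_idM {v : ℕ} (hv : v < 2 ^ 20) : app idM v = v := by
  refine (app_ext (f := fun v => v) idM (fun a b _ _ => rfl) ?_ hv).symm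
  intro k hk
  rw [app_two_pow _ hk, idM, getField_pack 20 20 _ (fun i hi => by
    show 1 <<< i < 2 ^ 20
    rw [Nat.one_shiftLeft]
    exact Nat.pow_lt_pow_right one_lt_two hi) hk]
  exact (Nat.one_shiftLeft k).symm

theorem app_addM (M N : ℕ) {v : ℕ} (hv : v < 2 ^ 20) : app (addM M N) v = app M v ^^^ app N v := by
  refine (app_ext (f := fun v => app M v ^^^ app N v) (addM M N) (fun a b _ _ => by
    simp only [app_xor, Nat.xor_assoc, Nat.xor_comm, Nat.xor_left_comm]) ?_ hv).symm
  intro k hk
  rw [app_two_pow _ hk, app_two_pow _ hk, app_two_pow _ hk]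
  refine Nat.eq_of_testBit_eq fun i => ?_
  show _ = (getField 20 (M ^^^ N) k).testBit i
  simp only [getField, show ∀ a b : ℕ, Nat.land a b = a &&& b from fun _ _ => rfl,
    show ∀ a b : ℕ, Nat.shiftRight a b = a >>> b from fun _ _ => rfl,
    Nat.testBit_xor, Nat.testBit_and, Nat.testBit_shiftRight]
  cases (Nat.sub (Nat.shiftLeft 1 20) 1).testBit i <;> simp

end Cfsg.Agent.U62Mod
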