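import Cfsg.Agent.U62Mod.Bit
import Cfsg.Agent.StemCert.Bound

/-!
# Sets of vectors as the bits of one number

A transvection permutes the positions by masked shifts, and the members are counted by summing
neighbouring fields.
-/

set_option autoImplicit false

namespace Cfsg.Agent.U62Mod

open Cfsg.Agent.StemCert

theorem natAnd (a b : ℕ) : Nat.land a b = a &&& b := rfl
theorem natOr (a b : ℕ) : Nat.lor a b = a ||| b := rfl
theorem natXor (a b : ℕ) : Nat.xor a b = a ^^^ b := rfl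
theorem natShl (a b : ℕ) : Nat.shiftLeft a b = a <<< b := rfl
theorem natShr (a b : ℕ) : Nat.shiftRight a b = a >>> b := rfl

/-- The positions below `2 ^ (j + 1 + d)` whose bit `j` is off. -/
noncomputable def loM (j d : ℕ) : ℕ :=
  Nat.rec (motive := fun _ => ℕ) (Nat.sub (Nat.pow 2 (Nat.pow 2 j)) 1)
    (fun k r => Nat.mul r (Nat.add (Nat.pow 2 (Nat.pow 2 (Nat.add (Nat.add j 1) k))) 1)) d

theorem loM_zero (j : ℕ) : loM j 0 = 2 ^ 2 ^ j - 1 := rfl

theorem loM_succ (j d : ℕ) : loM j (d + 1) = loM j d * (2 ^ 2 ^ (j + 1 + d) + 1) := rfl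

theorem testBit_top {n k v : ℕ} (hk : k ≤ n) (hv : v < 2 ^ n) :
    (2 ^ n + v).testBit k = if k = n then true else v.testBit k := by
  rcases hk.lt_or_eq with h | rfl
  · rw [if_neg h.ne, Nat.testBit_two_pow_add_gt h]
  · rw [if_pos rfl, Nat.testBit_two_pow_add_eq, Nat.testBit_lt_two_pow hv]; rfl

theorem loM_spec (j : ℕ) : ∀ d, loM j d < 2 ^ 2 ^ (j + 1 + d) ∧
    ∀ v, v < 2 ^ (j + 1 + d) → (loM j d).testBit v = !v.testBit j
  | 0 => by
    refine ⟨?_, fun v hv => ?_⟩
    · rw [loM_zero]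
      exact lt_of_le_of_lt (Nat.sub_le _ _)
        (Nat.pow_lt_pow_right one_lt_two (Nat.pow_lt_pow_right one_lt_two (by omega)))
    · rw [loM_zero, Nat.testBit_two_pow_sub_one]
      by_cases h : v < 2 ^ j
      · simp [h, Nat.testBit_lt_two_pow h]
      · obtain ⟨w, rfl⟩ : ∃ w, v = 2 ^ j + w := ⟨v - 2 ^ j, by omega⟩
        have hw : w < 2 ^ j := by rw [add_zero, pow_succ] at hv; omega
        simp [h, Nat.testBit_two_pow_add_eq, Nat.testBit_lt_two_pow hw]
  | d + 1 => by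
    obtain ⟨h1, h2⟩ := loM_spec j d
    have e : loM j (d + 1) = 2 ^ 2 ^ (j + 1 + d) * loM j d + loM j d := by rw [loM_succ]; ring
    refine ⟨?_, fun v hv => ?_⟩
    · rw [e, show 2 ^ (j + 1 + (d + 1)) = 2 ^ (j + 1 + d) + 2 ^ (j + 1 + d) by
        rw [← add_assoc, pow_succ]; ring]
      generalize hN : 2 ^ (j + 1 + d) = N at h1 ⊢
      rw [pow_add]
      nlinarith
    · rw [e, Nat.testBit_two_pow_mul_add _ h1]
      split_ifs with h
      · exact h2 v h
      · obtain ⟨w, rfl⟩ : ∃ w, v = 2 ^ (j + 1 + d) + w := ⟨v - 2 ^ (j + 1 + d), by omega⟩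
        rw [← add_assoc, pow_succ] at hv
        rw [Nat.add_sub_cancel_left, h2 w (by omega), Nat.testBit_two_pow_add_gt (by omega)]

/-- The mask of bit `j` on twenty bits. -/
noncomputable def loB (j : ℕ) : ℕ := loM j (Nat.sub 19 j)

theorem loB_spec {j : ℕ} (hj : j < 20) : loB j < 2 ^ 2 ^ 20 ∧
    ∀ v, v < 2 ^ 20 → (loB j).testBit v = !v.testBit j := by
  have h := loM_spec j (19 - j)
  rwa [show j + 1 + (19 - j) = 20 by omega] at h

/-- The effect of a transvection on a vector. -/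
noncomputable def opV (p : ℕ × ℕ) (v : ℕ) : ℕ := cond (bitB v p.2) (Nat.xor v (Nat.shiftLeft 1 p.1)) v

/-- All positions below `2 ^ n`. -/
noncomputable def fullN (n : ℕ) : ℕ := Nat.sub (Nat.pow 2 (Nat.pow 2 n)) 1

theorem fullN_spec (n w : ℕ) : (fullN n).testBit w = decide (w < 2 ^ n) := Nat.testBit_two_pow_sub_one _ _

/-- All positions. -/
noncomputable def fullM : ℕ := fullN 20

/-- The positions with bit `j` on and bit `i` off. -/
noncomputable def maskUp (i j : ℕ) : ℕ := Nat.land (Nat.xor fullM (loB j)) (loB i)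

/-- The positions with both bits on. -/
noncomputable def maskDown (i j : ℕ) : ℕ := Nat.land (Nat.xor fullM (loB j)) (Nat.xor fullM (loB i))

/-- The preimage of a set under a transvection. -/
noncomputable def opP (p : ℕ × ℕ) (S : ℕ) : ℕ :=
  forceN S fun S =>
    Nat.lor (Nat.land S (loB p.2))
      (Nat.lor (Nat.shiftLeft (Nat.land S (maskUp p.1 p.2)) (Nat.pow 2 p.1))
        (Nat.shiftRight (Nat.land S (maskDown p.1 p.2)) (Nat.pow 2 p.1)))

theorem xor_two_pow_of_off {x i : ℕ} (h : x.testBit i = false) : x + 2 ^ i = x ^^^ 2 ^ i := by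
  refine Nat.eq_of_testBit_eq fun b => ?_
  rw [Nat.testBit_xor, Nat.testBit_two_pow]
  rcases lt_trichotomy b i with hb | rfl | hb
  · rw [add_comm, Nat.testBit_two_pow_add_gt hb]; simp [hb.ne']
  · rw [add_comm, Nat.testBit_two_pow_add_eq, h]; simp
  · have h2 : x / 2 ^ i % 2 = 0 := by
      rw [Nat.testBit_eq_decide_div_mod_eq, decide_eq_false_iff_not] at h
      omega
    have h3 : (x + 2 ^ i) / 2 ^ i = x / 2 ^ i + 1 := Nat.add_div_right _ (Nat.two_pow_pos i)
    obtain ⟨t, rfl⟩ : ∃ t, b = i + (t + 1) := ⟨b - i - 1, by omega⟩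
    simp only [show i ≠ i + (t + 1) by omega, decide_false, Bool.xor_false,
      Nat.testBit_eq_decide_div_mod_eq, pow_add, ← Nat.div_div_eq_div_mul, h3, pow_succ',
      ← Nat.div_div_eq_div_mul]
    rw [show (x / 2 ^ i + 1) / 2 = x / 2 ^ i / 2 by omega]

theorem opV_lt {p : ℕ × ℕ} (hp : p.1 < 20) {v : ℕ} (hv : v < 2 ^ 20) : opV p v < 2 ^ 20 := by
  rw [opV]
  cases bitB v p.2 with
  | false => exact hv
  | true =>
    refine Nat.xor_lt_two_pow hv ?_
    rw [natShl, Nat.one_shiftLeft]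
    exact Nat.pow_lt_pow_right one_lt_two hp

theorem opP_spec {p : ℕ × ℕ} (h1 : p.1 < 20) (h2 : p.2 < 20) (h12 : p.1 ≠ p.2) (S : ℕ) {v : ℕ}
    (hv : v < 2 ^ 20) : (opP p S).testBit v = S.testBit (opV p v) := by
  obtain ⟨i, j⟩ := p
  dsimp only at h1 h2 h12
  obtain ⟨-, hLi⟩ := loB_spec h1
  obtain ⟨hLlt, hLj⟩ := loB_spec h2
  simp only [opP, maskUp, maskDown, forceN_eq, natAnd, natOr, natXor, natShl, natShr, opV, bitB_eq,
    Nat.testBit_or, Nat.testBit_shiftLeft, Nat.testBit_shiftRight, Nat.testBit_and, Nat.testBit_xor,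
    Nat.one_shiftLeft, show ∀ a b : ℕ, Nat.pow a b = a ^ b from fun _ _ => rfl]
  have hfull : ∀ w, fullM.testBit w = decide (w < 2 ^ 20) := fun w => fullN_spec 20 w
  have hxor : ∀ w, w < 2 ^ 20 → w ^^^ 2 ^ i < 2 ^ 20 := fun w hw =>
    Nat.xor_lt_two_pow hw (Nat.pow_lt_pow_right one_lt_two h1)
  have hbig : ∀ k, k < 20 → ∀ w, 2 ^ 20 ≤ w → (loB k).testBit w = false := fun k hk w hw =>
    Nat.testBit_lt_two_pow ((loB_spec hk).1.trans_le (Nat.pow_le_pow_right two_pos hw))
  clear hLlt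
  generalize hE : (2 : ℕ) ^ 20 = E at hv hfull hxor hbig hLi hLj
  clear hE
  simp only [hfull]
  have hH : ∀ k, k < 20 → (∀ v, v < E → (loB k).testBit v = !v.testBit k) → ∀ w,
      (decide (w < E) ^^ (loB k).testBit w) = (decide (w < E) && w.testBit k) := by
    intro k hk hk' w
    by_cases hw : w < E
    · rw [hk' w hw]; cases w.testBit k <;> simp [hw]
    · rw [hbig k hk w (not_lt.1 hw)]
      simp [hw]
  simp only [hH j h2 hLj, hH i h1 hLi, hLj v hv]
  have hipos := Nat.two_pow_pos i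
  cases hb : v.testBit i with
  | false =>
    have hup : v + 2 ^ i < E := by
      rw [xor_two_pow_of_off hb]
      exact hxor v hv
    have hui : (v + 2 ^ i).testBit i = true := by rw [add_comm, Nat.testBit_two_pow_add_eq, hb]; rfl
    have huj : (v + 2 ^ i).testBit j = v.testBit j := by
      rw [xor_two_pow_of_off hb, Nat.testBit_xor, Nat.testBit_two_pow_of_ne h12, Bool.xor_false]
    have hdown : v ≥ 2 ^ i → (v - 2 ^ i).testBit i = true := fun h => by
      have := Nat.testBit_two_pow_add_eq (v - 2 ^ i) i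
      rw [show 2 ^ i + (v - 2 ^ i) = v by omega, hb] at this
      cases hx : (v - 2 ^ i).testBit i <;> simp [hx] at this ⊢
    rw [add_comm (2 ^ i) v, hui, huj]
    by_cases hge : v ≥ 2 ^ i
    · rw [hLi _ (by omega), hdown hge]
      cases v.testBit j <;> simp [hup, hxor v hv, xor_two_pow_of_off hb]
    · cases v.testBit j <;> simp [hge, hup, hxor v hv, xor_two_pow_of_off hb]
  | true =>
    have hge : v ≥ 2 ^ i := Nat.ge_two_pow_of_testBit hb
    have hoff : (v - 2 ^ i).testBit i = false := by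
      have := Nat.testBit_two_pow_add_eq (v - 2 ^ i) i
      rw [show 2 ^ i + (v - 2 ^ i) = v by omega, hb] at this
      cases hx : (v - 2 ^ i).testBit i <;> simp [hx] at this ⊢
    have hx : v ^^^ 2 ^ i = v - 2 ^ i := by
      have := xor_two_pow_of_off hoff
      rw [Nat.sub_add_cancel hge] at this
      conv_lhs => rw [this]
      rw [Nat.xor_assoc, Nat.xor_self, Nat.xor_zero]
    have hdj : (v - 2 ^ i).testBit j = v.testBit j := by
      rw [← hx, Nat.testBit_xor, Nat.testBit_two_pow_of_ne h12, Bool.xor_false]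
    rw [add_comm (2 ^ i) v, hLi _ (show v - 2 ^ i < E by omega), hoff, hdj]
    by_cases hup : v + 2 ^ i < E
    · have : (v + 2 ^ i).testBit i = false := by rw [add_comm, Nat.testBit_two_pow_add_eq, hb]; rfl
      rw [this]
      cases v.testBit j <;> simp [hge, hup, hx, show v - 2 ^ i < E by omega]
    · cases v.testBit j <;> simp [hge, hup, hx, show v - 2 ^ i < E by omega]

/-- The effect of a list of transvections. -/
noncomputable def opsV (l : List (ℕ × ℕ)) (v : ℕ) : ℕ :=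
  List.rec (motive := fun _ => ℕ → ℕ) (fun v => v) (fun p _ r v => r (opV p v)) l v

/-- The preimage under a list of transvections. -/
noncomputable def pullP (l : List (ℕ × ℕ)) (S : ℕ) : ℕ :=
  List.rec (motive := fun _ => ℕ) S (fun p _ r => forceN r (opP p)) l

theorem pullP_spec : ∀ {l : List (ℕ × ℕ)}, (∀ p ∈ l, p.1 < 20 ∧ p.2 < 20 ∧ p.1 ≠ p.2) → ∀ (S : ℕ) {v : ℕ},
    v < 2 ^ 20 → (pullP l S).testBit v = S.testBit (opsV l v)
  | [], _, S, v, _ => rfl
  | p :: l, h, S, v, hv => by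
    obtain ⟨h1, h2, h3⟩ := h p (List.mem_cons_self ..)
    show (forceN (pullP l S) (opP p)).testBit v = S.testBit (opsV l (opV p v))
    rw [forceN_eq, opP_spec h1 h2 h3 _ hv,
      pullP_spec (fun q hq => h q (List.mem_cons_of_mem _ hq)) S (opV_lt h1 hv)]

/-- Adding neighbouring fields of width `2 ^ k`. -/
noncomputable def pcStep (M k x : ℕ) : ℕ :=
  Nat.add (Nat.land x M) (Nat.land (Nat.shiftRight x (Nat.pow 2 k)) M)

/-- The first `m` steps on `2 ^ n` positions. -/
noncomputable def pcN (n m x : ℕ) : ℕ :=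
  Nat.rec (motive := fun _ => ℕ) x
    (fun k r => forceN r (pcStep (loM k (Nat.sub (Nat.sub n 1) k)) k)) m

/-- The number of members below `2 ^ 20`. -/
noncomputable def popN (S : ℕ) : ℕ := pcN 20 20 S

theorem pcN_succ (n m x : ℕ) : pcN n (m + 1) x =
    (pcN n m x &&& loM m (n - 1 - m)) + ((pcN n m x >>> 2 ^ m) &&& loM m (n - 1 - m)) := by
  show forceN (pcN n m x) _ = _
  rw [forceN_eq]; rfl

theorem pcN_split {n : ℕ} {lo hi : ℕ} (hlo : lo < 2 ^ 2 ^ n) (hhi : hi < 2 ^ 2 ^ n) : ∀ m, m ≤ n →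
    pcN n m lo < 2 ^ 2 ^ n ∧ pcN n m hi < 2 ^ 2 ^ n ∧
      pcN (n + 1) m (2 ^ 2 ^ n * hi + lo) = 2 ^ 2 ^ n * pcN n m hi + pcN n m lo
  | 0, _ => ⟨hlo, hhi, rfl⟩
  | m + 1, hm => by
    obtain ⟨hA, hB, he⟩ := pcN_split hlo hhi m (Nat.le_of_succ_le hm)
    obtain ⟨hM, hMv⟩ := loM_spec m (n - 1 - m)
    rw [show m + 1 + (n - 1 - m) = n by omega] at hM hMv
    set A := pcN n m lo with hAdef
    set B := pcN n m hi with hBdef
    set M := loM m (n - 1 - m) with hMdef
    have hoff : ∀ v, 2 ^ n ≤ v + 2 ^ m → v < 2 ^ n → M.testBit v = false := fun v h1 h2 => by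
      rw [hMv v h2]
      obtain ⟨t, rfl⟩ : ∃ t, n = m + 1 + t := ⟨n - m - 1, by omega⟩
      rw [Nat.testBit_eq_decide_div_mod_eq]
      have hq : v / 2 ^ m = 2 ^ (1 + t) - 1 := by
        refine Nat.div_eq_of_lt_le ?_ ?_
        · rw [Nat.sub_mul, ← pow_add, one_mul, show 1 + t + m = m + 1 + t by omega]; omega
        · rw [Nat.sub_add_cancel (Nat.one_le_two_pow), ← pow_add, show 1 + t + m = m + 1 + t by omega]
          exact h2
      rw [hq, pow_add, pow_one]
      have := Nat.two_pow_pos t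
      simp
      omega
    have hM2 : M < 2 ^ (2 ^ n - 1) := Nat.lt_pow_two_of_testBit _ fun v hv => by
      by_cases h : v < 2 ^ n
      · exact hoff v (by have := Nat.two_pow_pos m; omega) h
      · exact Nat.testBit_lt_two_pow (hM.trans_le (Nat.pow_le_pow_right two_pos (not_lt.1 h)))
    have hbound : ∀ x, (x &&& M) + ((x >>> 2 ^ m) &&& M) < 2 ^ 2 ^ n := fun x => by
      have h1 : x &&& M ≤ M := Nat.and_le_right
      have h2 : (x >>> 2 ^ m) &&& M ≤ M := Nat.and_le_right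
      have h3 : 2 ^ 2 ^ n = 2 ^ (2 ^ n - 1) * 2 := by
        rw [← pow_succ, Nat.sub_add_cancel (Nat.one_le_two_pow)]
      omega
    rw [pcN_succ, pcN_succ, pcN_succ, he, show n + 1 - 1 - m = n - 1 - m + 1 by omega, loM_succ,
      show m + 1 + (n - 1 - m) = n by omega, ← hAdef, ← hBdef, ← hMdef]
    refine ⟨hbound A, hbound B, ?_⟩
    have hM' : M * (2 ^ 2 ^ n + 1) = 2 ^ 2 ^ n * M + M := by ring
    have e1 : (2 ^ 2 ^ n * B + A) &&& (2 ^ 2 ^ n * M + M) = 2 ^ 2 ^ n * (B &&& M) + (A &&& M) := by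
      refine Nat.eq_of_testBit_eq fun v => ?_
      rw [Nat.testBit_and, Nat.testBit_two_pow_mul_add _ hA, Nat.testBit_two_pow_mul_add _ hM,
        Nat.testBit_two_pow_mul_add _ (Nat.and_le_left.trans_lt hA)]
      split_ifs <;> simp
    have e2 : ((2 ^ 2 ^ n * B + A) >>> 2 ^ m) &&& (2 ^ 2 ^ n * M + M) =
        2 ^ 2 ^ n * ((B >>> 2 ^ m) &&& M) + ((A >>> 2 ^ m) &&& M) := by
      refine Nat.eq_of_testBit_eq fun v => ?_
      rw [Nat.testBit_and, Nat.testBit_shiftRight, Nat.testBit_two_pow_mul_add _ hA,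
        Nat.testBit_two_pow_mul_add _ hM, Nat.testBit_two_pow_mul_add _ (Nat.and_le_right.trans_lt hM)]
      have hwpos := Nat.two_pow_pos m
      by_cases h : v < 2 ^ n
      · simp only [if_pos h, Nat.testBit_and, Nat.testBit_shiftRight]
        by_cases h' : 2 ^ m + v < 2 ^ n
        · rw [if_pos h']
        · rw [hoff v (by omega) h]; simp
      · rw [if_neg (show ¬ 2 ^ m + v < 2 ^ n by omega), if_neg h, if_neg h, Nat.testBit_and,
          Nat.testBit_shiftRight, show 2 ^ m + v - 2 ^ n = 2 ^ m + (v - 2 ^ n) by omega]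
    rw [hM', e1, e2]
    ring

theorem pcN_spec : ∀ (n : ℕ) {S : ℕ}, S < 2 ^ 2 ^ n →
    pcN n n S = ∑ v ∈ Finset.range (2 ^ n), (S.testBit v).toNat
  | 0, S, h => by
    have h2 : S < 2 := by simpa using h
    show S = _
    interval_cases S <;> simp
  | n + 1, S, h => by
    set B := S / 2 ^ 2 ^ n with hB
    set A := S % 2 ^ 2 ^ n with hA
    have hA' : A < 2 ^ 2 ^ n := Nat.mod_lt _ (Nat.two_pow_pos _)
    have hB' : B < 2 ^ 2 ^ n := by
      rw [hB, Nat.div_lt_iff_lt_mul (Nat.two_pow_pos _), ← pow_add, ← two_mul, ← pow_succ']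
      exact h
    have hS : 2 ^ 2 ^ n * B + A = S := Nat.div_add_mod _ _
    obtain ⟨hcA, hcB, he⟩ := pcN_split hA' hB' n le_rfl
    rw [hS] at he
    rw [pcN_succ, he, Nat.add_sub_cancel, Nat.sub_self, loM_zero, Nat.and_two_pow_sub_one_eq_mod,
      Nat.and_two_pow_sub_one_eq_mod, Nat.shiftRight_eq_div_pow, Nat.mul_add_mod, Nat.mod_eq_of_lt hcA,
      Nat.mul_add_div (Nat.two_pow_pos _), Nat.div_eq_of_lt hcA, add_zero, Nat.mod_eq_of_lt hcB,
      pcN_spec n hA', pcN_spec n hB', pow_succ, mul_two, Finset.sum_range_add]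
    congr 1
    · refine Finset.sum_congr rfl fun v hv => ?_
      rw [← hS, Nat.testBit_two_pow_mul_add _ hA', if_pos (Finset.mem_range.1 hv)]
    · refine Finset.sum_congr rfl fun v _ => ?_
      rw [← hS, Nat.testBit_two_pow_mul_add _ hA', if_neg (by omega), Nat.add_sub_cancel_left]

theorem popN_spec {S : ℕ} (h : S < 2 ^ 2 ^ 20) :
    popN S = ((Finset.range (2 ^ 20)).filter fun v => S.testBit v = true).card := by
  rw [popN, pcN_spec 20 h, Finset.card_filter]
  refine Finset.sum_congr rfl fun v _ => ?_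
  cases S.testBit v <;> rfl

end Cfsg.Agent.U62Mod
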