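import Mathlib

/-!
# Weights of an elementary group of order 81 on a group of exponent two

The weight space of a functional is the set of vectors fixed by its kernel with trivial norm for
the elements outside. Weight spaces of functionals that are not proportional are independent.
-/

set_option autoImplicit false

namespace Cfsg.Agent.U62Mod

/-- The elementary group. -/
abbrev Z4 : Type := Fin 4 → ZMod 3

/-- The pairing. -/
def dot (l z : Z4) : ZMod 3 := l 0 * z 0 + l 1 * z 1 + l 2 * z 2 + l 3 * z 3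

theorem dot_add (l z z' : Z4) : dot l (z + z') = dot l z + dot l z' := by
  simp only [dot, Pi.add_apply]; ring

theorem dot_sum (l : Z4) (z : Z4) : dot l z = ∑ i, l i * z i := by
  simp [dot, Fin.sum_univ_four]

namespace Weights

variable {M : Type*} [CommGroup M] (ψ : Multiplicative Z4 →* MulAut M)

/-- The action of an element. -/
def act (z : Z4) (a : M) : M := ψ (Multiplicative.ofAdd z) a

theorem act_mul (z : Z4) (a b : M) : act ψ z (a * b) = act ψ z a * act ψ z b := map_mul _ a b

theorem act_one (z : Z4) : act ψ z 1 = 1 := map_one _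

theorem act_zero (a : M) : act ψ 0 a = a := by simp [act]

theorem act_add (z w : Z4) (a : M) : act ψ (z + w) a = act ψ z (act ψ w a) := by
  simp [act, ofAdd_add]

theorem act_comm (z w : Z4) (a : M) : act ψ z (act ψ w a) = act ψ w (act ψ z a) := by
  rw [← act_add, add_comm, act_add]

theorem add_three (z : Z4) : z + z + z = 0 := by
  funext i
  simp only [Pi.add_apply, Pi.zero_apply]
  generalize z i = x
  revert x; decide

/-- The norm along an element. -/
def nrm (z : Z4) (a : M) : M := a * act ψ z a * act ψ (z + z) a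

theorem act_nrm (z : Z4) (a : M) : act ψ z (nrm ψ z a) = nrm ψ z a := by
  simp only [nrm, act_mul, ← act_add]
  rw [← add_assoc, add_three, act_zero, mul_comm _ a, ← mul_assoc]

/-- The weight space. -/
def wt (l : Z4) : Subgroup M where
  carrier := {a | ∀ z, (dot l z = 0 → act ψ z a = a) ∧ (dot l z ≠ 0 → nrm ψ z a = 1)}
  one_mem' := fun z => ⟨fun _ => act_one ψ z, fun _ => by simp [nrm, act_one]⟩
  mul_mem' := fun {a b} ha hb z => ⟨fun h => by rw [act_mul, (ha z).1 h, (hb z).1 h], fun h => by
    have h1 := (ha z).2 h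
    have h2 := (hb z).2 h
    simp only [nrm, act_mul] at h1 h2 ⊢
    calc _ = (a * act ψ z a * act ψ (z + z) a) * (b * act ψ z b * act ψ (z + z) b) := by ac_rfl
      _ = 1 := by rw [h1, h2, one_mul]⟩
  inv_mem' := fun {a} ha z => by
    constructor
    · intro h
      rw [act, map_inv]
      exact congrArg Inv.inv ((ha z).1 h)
    · intro h
      have h1 := congrArg Inv.inv ((ha z).2 h)
      simp only [nrm, act, map_inv, inv_one, _root_.mul_inv] at h1 ⊢
      exact h1

theorem mem_wt {l : Z4} {a : M} :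
    a ∈ wt ψ l ↔ ∀ z, (dot l z = 0 → act ψ z a = a) ∧ (dot l z ≠ 0 → nrm ψ z a = 1) := Iff.rfl

/-- The kernel. -/
def ker (l : Z4) : Finset Z4 := Finset.univ.filter fun z => dot l z = 0

/-- The average over the kernel. -/
def avg (l : Z4) : M →* M := ∏ z ∈ ker l, (ψ (Multiplicative.ofAdd z)).toMonoidHom

theorem avg_apply (l : Z4) (a : M) : avg ψ l a = ∏ z ∈ ker l, act ψ z a := by
  simp [avg, act, MonoidHom.finsetProd_apply]

theorem act_avg {l w : Z4} (hw : dot l w = 0) (a : M) : act ψ w (avg ψ l a) = avg ψ l a := by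
  rw [avg_apply, show act ψ w (∏ z ∈ ker l, act ψ z a) = ∏ z ∈ ker l, act ψ w (act ψ z a) from
    map_prod (ψ (Multiplicative.ofAdd w)) _ _]
  refine Finset.prod_nbij' (fun z => w + z) (fun z => w + w + z) ?_ ?_ ?_ ?_ ?_
  · intro z hz; simp [ker] at hz ⊢; rw [dot_add, hw, hz, add_zero]
  · intro z hz; simp [ker] at hz ⊢; rw [dot_add, dot_add, hw, hz, add_zero, add_zero]
  · intro z _; show w + w + (w + z) = z; rw [← add_assoc, add_three, zero_add]
  · intro z _; show w + (w + w + z) = z; rw [← add_assoc, ← add_assoc, add_three, zero_add]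
  · intro z _; rw [act_add]

theorem cube_eq (hsq : ∀ a : M, a * a = 1) (a : M) : a * a * a = a := by rw [hsq, one_mul]

theorem card_ker {l : Z4} (hl : l ≠ 0) : (ker l).card = 27 := by
  revert l; decide +kernel

theorem avg_self (hsq : ∀ a : M, a * a = 1) {l : Z4} (hl : l ≠ 0) {a : M} (ha : a ∈ wt ψ l) :
    avg ψ l a = a := by
  rw [avg_apply, Finset.prod_congr rfl (fun z hz => (ha z).1 (by simpa [ker] using hz)),
    Finset.prod_const, card_ker hl, show (27 : ℕ) = 2 * 13 + 1 from rfl, pow_succ, pow_mul, sq, hsq,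
    one_pow, one_mul]

theorem exists_sep {l m : Z4} (hl : l ≠ 0) (hm : ∀ c : ZMod 3, m ≠ c • l) :
    ∃ z, dot l z = 0 ∧ dot m z ≠ 0 := by
  by_contra h
  push Not at h
  obtain ⟨i, hi⟩ : ∃ i, l i ≠ 0 := by
    by_contra hc; push Not at hc; exact hl (funext hc)
  refine hm (l i * m i) (funext fun j => ?_)
  have h1 := h (Pi.single j (l i) - Pi.single i (l j)) (by
    rw [dot_sum]
    simp [Pi.single_apply, mul_sub, Finset.sum_sub_distrib]
    ring)
  rw [dot_sum] at h1
  simp [Pi.single_apply, mul_sub, Finset.sum_sub_distrib] at h1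
  simp only [Pi.smul_apply, smul_eq_mul]
  revert h1 hi
  generalize l i = a; generalize l j = b; generalize m i = c; generalize m j = d
  revert a b c d; decide

theorem avg_other (hsq : ∀ a : M, a * a = 1) {l m : Z4} (hl : l ≠ 0) (hm : ∀ c : ZMod 3, m ≠ c • l)
    {a : M} (ha : a ∈ wt ψ m) : avg ψ l a = 1 := by
  obtain ⟨z, hz, hzm⟩ := exists_sep hl hm
  have h1 : avg ψ l (nrm ψ z a) = 1 := by rw [(ha z).2 hzm, map_one]
  have hc : ∀ w, avg ψ l (act ψ w a) = act ψ w (avg ψ l a) := fun w => by
    rw [avg_apply, avg_apply, show act ψ w (∏ z ∈ ker l, act ψ z a) = ∏ z ∈ ker l, act ψ w (act ψ z a) from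
      map_prod (ψ (Multiplicative.ofAdd w)) _ _]
    exact Finset.prod_congr rfl fun v _ => act_comm ψ v w a
  have hz2 : dot l (z + z) = 0 := by rw [dot_add, hz, add_zero]
  rw [nrm, map_mul, map_mul, hc, hc, act_avg ψ hz, act_avg ψ hz2] at h1
  rwa [cube_eq hsq] at h1

/-- Weight spaces of a pairwise non-proportional family are independent. -/
theorem prod_injective (hsq : ∀ a : M, a * a = 1) {n : ℕ} (Λ : Fin n → Z4) (h0 : ∀ i, Λ i ≠ 0)
    (hne : ∀ i j, i ≠ j → ∀ c : ZMod 3, Λ j ≠ c • Λ i) :
    Function.Injective fun f : ∀ i, wt ψ (Λ i) => ∏ i, (f i : M) := by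
  intro f g h
  funext i
  have key : ∀ f : ∀ i, wt ψ (Λ i), avg ψ (Λ i) (∏ j, (f j : M)) = f i := fun f => by
    rw [map_prod, Finset.prod_eq_single i]
    · exact avg_self ψ hsq (h0 i) (f i).2
    · intro j _ hj
      exact avg_other ψ hsq (h0 i) (hne i j hj.symm) (f j).2
    · simp
  exact Subtype.ext ((key f).symm.trans ((congrArg _ h).trans (key g)))

theorem card_pow_le [Finite M] (hsq : ∀ a : M, a * a = 1) {n k : ℕ} (Λ : Fin n → Z4) (h0 : ∀ i, Λ i ≠ 0)
    (hne : ∀ i j, i ≠ j → ∀ c : ZMod 3, Λ j ≠ c • Λ i) (hk : ∀ i, k ≤ Nat.card (wt ψ (Λ i))) :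
    k ^ n ≤ Nat.card M := by
  have := Fintype.ofFinite M
  classical
  refine le_trans ?_ (Nat.card_le_card_of_injective _ (prod_injective ψ hsq Λ h0 hne))
  rw [Nat.card_pi]
  calc k ^ n = ∏ _i : Fin n, k := by simp
    _ ≤ _ := Finset.prod_le_prod' fun i _ => hk i

theorem four_le [Finite M] (hsq : ∀ a : M, a * a = 1) {l : Z4} {a : M} (ha : a ∈ wt ψ l) (ha1 : a ≠ 1)
    (hl : l ≠ 0) : 4 ≤ Nat.card (wt ψ l) := by
  classical
  obtain ⟨z, hz⟩ : ∃ z, dot l z ≠ 0 := by
    obtain ⟨j, hj⟩ : ∃ j, l j ≠ 0 := by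
      by_contra hc; push Not at hc; exact hl (funext hc)
    exact ⟨Pi.single j 1, by simpa [dot_sum, Pi.single_apply] using hj⟩
  have hn := (ha z).2 hz
  set b := act ψ z a with hb
  have hbm : b ∈ wt ψ l := fun w => ⟨fun h => by rw [hb, act_comm, (ha w).1 h], fun h => by
    rw [show nrm ψ w b = act ψ z (nrm ψ w a) by simp only [hb, nrm, act_mul, act_comm ψ z],
      (ha w).2 h, act_one]⟩
  have hba : b ≠ a := fun h => ha1 (by
    simp only [nrm] at hn
    rw [act_add, ← hb, h, ← hb, h, cube_eq hsq] at hn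
    exact hn)
  have hb1 : b ≠ 1 := fun h => ha1 (by
    have := congrArg (act ψ (z + z)) h
    rwa [hb, ← act_add, add_three, act_zero, act_one] at this)
  have hab : a * b ≠ 1 := fun h => hba (by
    calc b = a * a * b := by rw [hsq, one_mul]
      _ = a := by rw [mul_assoc, h, mul_one])
  let f : Fin 4 → wt ψ l := ![1, ⟨a, ha⟩, ⟨b, hbm⟩, ⟨a * b, mul_mem ha hbm⟩]
  have : Function.Injective f := by
    intro i j h
    have h' := congrArg Subtype.val h
    fin_cases i <;> fin_cases j <;>
      simp [f, ha1, Ne.symm ha1, hb1, Ne.symm hb1, hba, Ne.symm hba, hab, Ne.symm hab] at h' ⊢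
  simpa using Nat.card_le_card_of_injective f this

/-- A moved vector yields a nonzero weight. -/
theorem exists_wt (hsq : ∀ a : M, a * a = 1) {i : Fin 4} {a₀ : M}
    (h : act ψ (Pi.single i 1) a₀ ≠ a₀) : ∃ l, l ≠ 0 ∧ ∃ a ∈ wt ψ l, a ≠ 1 := by
  classical
  set e : Z4 := Pi.single i 1 with he
  have hN : ∀ b, nrm ψ e (b * act ψ e b) = 1 := fun b => by
    have h3 := act_nrm ψ e b
    rw [show nrm ψ e (b * act ψ e b) = nrm ψ e b * act ψ e (nrm ψ e b) by
      simp only [nrm, act_mul, act_comm ψ e]; ac_rfl, h3, hsq]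
  have step : ∀ s : Finset (Fin 4), i ∉ s → ∃ (a : M) (c : Fin 4 → ZMod 3), a ≠ 1 ∧ nrm ψ e a = 1 ∧
      ∀ j ∈ s, act ψ (Pi.single j 1 + c j • e) a = a := by
    intro s
    induction s using Finset.induction_on with
    | empty =>
      exact fun _ => ⟨a₀ * act ψ e a₀, 0, fun h1 => h (by
        calc act ψ e a₀ = a₀ * a₀ * act ψ e a₀ := by rw [hsq, one_mul]
          _ = a₀ := by rw [mul_assoc, h1, mul_one]), hN a₀, by simp⟩
    | insert j s hj ih =>
      intro hi
      simp only [Finset.mem_insert, not_or] at hi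
      obtain ⟨a, c, ha1, haN, hfix⟩ := ih hi.2
      set z : Z4 := Pi.single j 1 with hz
      have key : nrm ψ z a * nrm ψ (z + e) a * nrm ψ (z + (e + e)) a = a := by
        have h1 : act ψ z (nrm ψ e a) = 1 := by rw [haN, act_one]
        have h2 : act ψ (z + z) (nrm ψ e a) = 1 := by rw [haN, act_one]
        have e2 : z + (e + e) + (z + (e + e)) = (z + z) + e := by
          funext k; simp only [Pi.add_apply]
          generalize z k = u; generalize e k = v
          revert u v; decide
        have e1 : z + e + (z + e) = (z + z) + (e + e) := by abel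
        simp only [nrm, act_mul, ← act_add] at h1 h2 ⊢
        rw [e1, e2]
        calc _ = a * a * a * (act ψ z a * act ψ (z + e) a * act ψ (z + (e + e)) a) *
              (act ψ (z + z) a * act ψ ((z + z) + e) a * act ψ ((z + z) + (e + e)) a) := by ac_rfl
          _ = a := by rw [h1, h2, mul_one, mul_one, cube_eq hsq]
      obtain ⟨t, ht⟩ : ∃ t : ZMod 3, nrm ψ (z + t • e) a ≠ 1 := by
        by_contra hc
        push Not at hc
        refine ha1 ?_
        rw [← key]
        have g0 := hc 0
        have g1 := hc 1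
        have g2 := hc 2
        rw [zero_smul, add_zero] at g0
        rw [one_smul] at g1
        rw [show (2 : ZMod 3) = 1 + 1 from rfl, add_smul, one_smul] at g2
        rw [g0, g1, g2, one_mul, one_mul]
      refine ⟨nrm ψ (z + t • e) a, Function.update c j t, ht, ?_, ?_⟩
      · rw [show nrm ψ e (nrm ψ (z + t • e) a) = nrm ψ (z + t • e) (nrm ψ e a) by
          simp only [nrm, act_mul, act_comm ψ e, act_comm ψ (e + e)]; ac_rfl, haN]
        simp [nrm, act_one]
      · intro k hk
        rcases Finset.mem_insert.1 hk with rfl | hk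
        · rw [Function.update_self]; exact act_nrm ψ _ a
        · rw [Function.update_of_ne (fun h' => hj (by rw [← h']; exact hk))]
          simp only [nrm, act_mul, act_comm ψ (Pi.single k 1 + c k • e), hfix k hk]
  obtain ⟨a, c, ha1, haN, hfix⟩ := step (Finset.univ.erase i) (by simp)
  let l : Z4 := fun j => if j = i then 1 else -c j
  have hl : l ≠ 0 := fun h' => by simpa [l] using congrFun h' i
  let fixa : AddSubgroup Z4 :=
    { carrier := {z | act ψ z a = a}
      zero_mem' := act_zero ψ a
      add_mem' := fun {z w} hz hw => show _ = _ by rw [act_add, hw, hz]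
      neg_mem' := fun {z} hz => show _ = _ by
        conv_lhs => rw [← hz, ← act_add]
        rw [neg_add_cancel, act_zero] }
  have hsm : ∀ (k : ZMod 3) (v : Z4), v ∈ fixa → k • v ∈ fixa := fun k v hv => by
    rw [← ZMod.natCast_zmod_val k, Nat.cast_smul_eq_nsmul]
    exact nsmul_mem hv _
  have hfix' : ∀ w, w - dot l w • e ∈ fixa := fun w => by
    let f : Fin 4 → Z4 := fun j => w j • Pi.single j (1 : ZMod 3) - (l j * w j) • e
    have hsum : ∑ j, f j = w - dot l w • e := by
      simp only [f, Finset.sum_sub_distrib, ← Finset.sum_smul, ← dot_sum]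
      congr 1
      funext k
      simp [Finset.sum_apply, Pi.single_apply]
    have this : w - dot l w • e = ∑ j ∈ Finset.univ.erase i, w j • (Pi.single j 1 + c j • e) := by
      rw [← hsum, ← Finset.add_sum_erase _ f (Finset.mem_univ i),
        show f i = 0 by simp [f, l, e], zero_add]
      refine Finset.sum_congr rfl fun j hj => ?_
      simp only [f, l, if_neg (Finset.mem_erase.1 hj).1]
      rw [smul_add, smul_smul, neg_mul, neg_smul, sub_neg_eq_add, mul_comm]
    rw [this]
    exact sum_mem fun j hj => hsm _ _ (hfix j hj)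
  refine ⟨l, hl, a, fun z => ⟨fun h0 => ?_, fun h0 => ?_⟩, ha1⟩
  · have := hfix' z
    rwa [h0, zero_smul, sub_zero] at this
  · have hz : ∀ w, act ψ w a = act ψ (dot l w • e) a := fun w => by
      conv_lhs => rw [← sub_add_cancel w (dot l w • e), add_comm, act_add, hfix' w]
    simp only [nrm] at haN ⊢
    rw [hz z, hz (z + z), dot_add, add_smul]
    rcases (by revert h0; generalize dot l z = x; revert x; decide :
      dot l z = 1 ∨ dot l z = 2) with h1 | h1 <;> rw [h1]
    · rwa [one_smul]
    · rw [show (2 : ZMod 3) • e = e + e by rw [show (2 : ZMod 3) = 1 + 1 from rfl, add_smul, one_smul],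
        show e + e + (e + e) = e by rw [← add_assoc, add_three, zero_add], mul_assoc,
        mul_comm (act ψ (e + e) a), ← mul_assoc]
      exact haN

end Weights

end Cfsg.Agent.U62Mod
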