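import Cfsg.Agent.U62Mod.Code
import Cfsg.Agent.U62Mod.Bit
import Cfsg.Agent.U62Mod.Weights

/-!
# The finite facts behind the uniqueness of the model
-/

set_option autoImplicit false
set_option maxRecDepth 100000

namespace Cfsg.Agent.U62Mod

open Cfsg.Agent.Compute Cfsg.Agent.StemCert

/-- The exponent word. -/
def zWord (a b c d : ℕ) : List ℕ :=
  List.replicate a 0 ++ List.replicate b 1 ++ List.replicate c 2 ++ List.replicate d 3

/-- An image of an exponent under an exchange. -/
def swapL (s j : ℕ) : List ℕ := (swapTab.getD s []).getD j []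

/-- The same as a vector. -/
def swapV (s j : ℕ) : Z4 := fun i => ((swapL s j).getD i.1 0 : ℕ)

/-- The action of an exchange on functionals. -/
def swapF (s : ℕ) (l : Z4) : Z4 := fun j => dot l (swapV s j.1)

/-- Several exchanges, the first one applied first. -/
def moveF (w : List ℕ) (l : Z4) : Z4 := w.foldl (fun l s => swapF s l) l

/-- The distinguished functional. -/
def lam0 : Z4 := ![0, 0, 1, 0]

/-- A functional by its number. -/
def lamOf (n : ℕ) : Z4 := ![((n / 27 : ℕ) : ZMod 3), ((n / 9 : ℕ) : ZMod 3), ((n / 3 : ℕ) : ZMod 3), (n : ℕ)]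

/-- Expansion of the exchange of the two halves. -/
def expand (w : List ℕ) : List ℕ := w.flatMap fun s => if s = 11 then swapW else [s]

/-- The word of a basis vector. -/
def basW (p c : ℕ) : List ℕ := repW.getD p [] ++ List.replicate c 2

/-- The code of a basis vector. -/
noncomputable def valC (p c : ℕ) : ℕ := Nat.shiftLeft (Nat.add c 1) (Nat.mul 2 p)

/-- The model of a generator. -/
def modOf (k : ℕ) : ℕ := modC.getD k 0

/-- The model of a word. -/
noncomputable def modW (w : List ℕ) : ℕ := evalM modC w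

/-- Equality on all units. -/
noncomputable def eqM (A B : ℕ) : Bool := allBelow 20 fun k => Nat.beq (getField 20 A k) (getField 20 B k)

theorem eqM_iff {A B : ℕ} : eqM A B = true ↔ ∀ v, v < 2 ^ 20 → app A v = app B v := by
  simp only [eqM, allBelow_eq_true, Nat.beq_eq]
  constructor
  · intro h v hv
    exact app_ext (f := app A) B (fun a b _ _ => app_xor A a b) (fun k hk => by
      rw [app_two_pow _ hk, app_two_pow _ hk, h k hk]) hv
  · intro h k hk
    rw [← app_two_pow A hk, ← app_two_pow B hk, h _ (Nat.pow_lt_pow_right one_lt_two hk)]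

theorem diag_rel : (allBelow 4 fun i => eqW [i, i, i] [] && allBelow 4 fun j => eqW [i, j] [j, i]) = true := by
  decide +kernel

theorem swap_rel : (allBelow 5 fun s => eqW [s + 5, s + 5] [] && allBelow 4 fun j =>
    eqW [s + 5, j, s + 5] (zWord ((swapL s j).getD 0 0) ((swapL s j).getD 1 0) ((swapL s j).getD 2 0)
      ((swapL s j).getD 3 0))) = true := by
  decide +kernel

theorem swap_lt : ∀ s : Fin 5, ∀ j i : Fin 4, (swapL s.1 j.1).getD i.1 0 < 3 := by decide +kernel

theorem swapW_rel : eqW (swapW ++ swapW) [] = true ∧ (∀ s ∈ swapW, 5 ≤ s ∧ s < 10) := by decide +kernel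

theorem swapW_lam : moveF ((swapW.map fun s => s - 5).reverse) lam0 = -lam0 := by decide +kernel

theorem fix_lam : ∀ s ∈ [5, 6, 8, 9], swapF (s - 5) lam0 = lam0 ∧ dot lam0 (swapV (s - 5) 2) = 1 := by
  decide +kernel

theorem repW_spec : ∀ p : Fin 10, ∀ s ∈ repW.getD p.1 [], 5 ≤ s ∧ s < 10 := by decide +kernel

/-- The functional of a pair. -/
def lamP (p : ℕ) : Z4 := moveF (((repW.getD p []).map fun s => s - 5).reverse) lam0

theorem lamP_ne : ∀ i : Fin 10, lamP i.1 ≠ 0 := by decide +kernel

theorem lamP_sep : ∀ i j : Fin 10, i ≠ j → ∀ c : ZMod 3, lamP j.1 ≠ c • lamP i.1 := by decide +kernel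

theorem orbit_letters : ∀ n : Fin 81, ∀ w ∈ orbTab.getD n.1 [], ∀ s ∈ w, s < 5 := by decide +kernel

theorem orbit_all : ∀ n : Fin 81, n.1 = 0 ∨
    ((orbTab.getD n.1 []).length = 1 ∧
      (moveF ((orbTab.getD n.1 []).getD 0 []) (lamOf n.1) = lam0 ∨
        moveF ((orbTab.getD n.1 []).getD 0 []) (lamOf n.1) = -lam0)) ∨
    (∀ i : Fin 11, moveF ((orbTab.getD n.1 []).getD i.1 []) (lamOf n.1) ≠ 0 ∧
      ∀ j : Fin 11, i ≠ j → ∀ c : ZMod 3, moveF ((orbTab.getD n.1 []).getD j.1 []) (lamOf n.1) ≠
        c • moveF ((orbTab.getD n.1 []).getD i.1 []) (lamOf n.1)) := by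
  decide +kernel

theorem lamOf_surj : ∀ l : Z4, ∃ n : Fin 81, lamOf n.1 = l := by decide +kernel

/-- An entry of the monomial table. -/
def monAt (k i : ℕ) : ℕ × ℕ × List ℕ := monTab.getD (20 * k + i) (0, 0, [])

theorem mon_letters : ∀ k : Fin 10, ∀ i : Fin 20, ∀ s ∈ (monAt k.1 i.1).2.2,
    s = 0 ∨ s = 1 ∨ s = 3 ∨ s = 5 ∨ s = 6 ∨ s = 8 ∨ s = 9 ∨ s = 11 := by decide +kernel

theorem mon_range : ∀ k : Fin 10, ∀ i : Fin 20, (monAt k.1 i.1).1 < 10 ∧ (monAt k.1 i.1).2.1 < 3 := by
  decide +kernel

theorem mon_rel : (allBelow 10 fun k => allBelow 20 fun i =>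
    eqW (k :: basW (i / 2) (i % 2)) (basW (monAt k i).1 (monAt k i).2.1 ++ expand (monAt k i).2.2) &&
    Nat.beq (getField 20 (modOf k) i) (valC (monAt k i).1 (monAt k i).2.1)) = true := by
  decide +kernel

/-- Select from a list by the bits of a number. -/
noncomputable def selX (l : List ℕ) : ℕ → ℕ :=
  List.rec (motive := fun _ => ℕ → ℕ) (fun _ => 0)
    (fun x _ r s => Nat.xor (cond (bitB s 0) x 0) (r (Nat.shiftRight s 1))) l

/-- The seeds. -/
def seed (s : ℕ) : ℕ := [1, 2, 4].getD s 0

/-- The spanning vectors. -/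
noncomputable def spanV : List ℕ := [1, 2] ++ srcTab.map fun q => app (modW q.1) 4

/-- Their images, given the images of the seeds. -/
noncomputable def spanI (a b t : ℕ) : List ℕ := [a, b] ++ srcTab.map fun q => app (modW q.2) t

/-- The candidate. -/
noncomputable def candM (a b t : ℕ) : ℕ := pack 20 20 fun i => selX (spanI a b t) (selTab.getD i 0)

/-- The projection onto the candidates for a seed. -/
noncomputable def projM (l : List (List ℕ × List ℕ × ℕ)) : ℕ :=
  List.rec (motive := fun _ => ℕ) idM (fun q _ r => addM r (mulM q.2.2 (addM (modW q.2.1) idM))) l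

/-- Membership of a list. -/
noncomputable def memN (x : ℕ) (l : List ℕ) : Bool :=
  List.rec (motive := fun _ => Bool) false (fun y _ r => Nat.beq x y || r) l

theorem seed_rel : (allBelow 3 fun s => allB (fun q : List ℕ × List ℕ × ℕ =>
    allB (fun x => Nat.blt x 10) q.1 && allB (fun x => Nat.blt x 10) q.2.1 &&
    eqW (10 :: q.1) (q.2.1 ++ [10]) && Nat.beq (app (modW q.1) (seed s)) (seed s)) (seedTab.getD s [])) = true := by
  decide +kernel

theorem proj_cand : (allBelow 3 fun s => memN 0 (candTab.getD s []) &&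
    allBelow 20 (fun k => memN (getField 20 (projM (seedTab.getD s [])) k) (candTab.getD s [])) &&
    allB (fun x => allB (fun y => memN (Nat.xor x y) (candTab.getD s [])) (candTab.getD s []))
      (candTab.getD s [])) = true := by
  decide +kernel

theorem src_rel : (allB (fun q : List ℕ × List ℕ =>
    allB (fun x => Nat.blt x 10) q.1 && allB (fun x => Nat.blt x 10) q.2 &&
    eqW (10 :: q.1) (q.2 ++ [10])) srcTab) = true := by
  decide +kernel

theorem span_units : (allBelow 20 fun i => Nat.beq (selX spanV (selTab.getD i 0)) (Nat.shiftLeft 1 i)) = true := by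
  decide +kernel

theorem corner_rel : eqW [10, 10] [6] = true ∧
    eqW [10, 2, 10, 2, 10, 2, 10, 2, 10, 2, 10, 2, 10, 2, 10, 2, 10, 2] [] = true := by
  decide +kernel

/-- Ninth power. -/
noncomputable def pow9 (A : ℕ) : ℕ := mulM A (mulM A (mulM A (mulM A (mulM A (mulM A (mulM A (mulM A A)))))))

theorem cand_unique : (allB (fun a => allB (fun b => allB (fun t =>
    forceN (candM a b t) fun M =>
      cond (eqM (mulM M M) (modOf 6)) (!(eqM (pow9 (mulM M (modOf 2))) idM) || eqM M (modOf 10)) true)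
      (candTab.getD 2 [])) (candTab.getD 1 [])) (candTab.getD 0 [])) = true := by
  decide +kernel

end Cfsg.Agent.U62Mod
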