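import Cfsg.Agent.U62Mod.ClassesGen
import Cfsg.Agent.AutPSU.Graph
import Cfsg.Agent.GraphForms.Classify

/-!
# The automorphisms of `PSU(6, 2)` and the involutions outside the group

Every automorphism is inner-diagonal times a field automorphism; an involutory one that is not inner
is the field automorphism or its product with a fixed involution, up to conjugation.
-/

set_option autoImplicit false
set_option maxRecDepth 100000

namespace Cfsg.Agent.U62Mod

open Cfsg.Agent.Classical Cfsg.Agent.Classical.Herm Cfsg.Agent.ThreeTrans.SU32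
open GraphForms (Sim IsAltMat)
open AutPSU (gmat)
open scoped Matrix

theorem fix_iff : ∀ x : K, F4.frob x = x ↔ x = 0 ∨ x = 1 := by decide +kernel

theorem charK : CharP K 2 :=
  (CharP.charP_iff_prime_eq_zero Nat.prime_two).2 (by
    show (2 : K) = 0
    rw [show (2 : K) = 1 + 1 by norm_num]
    exact (by decide +kernel : (1 : K) + 1 = 0))

/-- The prime field inside. -/
noncomputable def inclK : ZMod 2 →+* K := haveI := charK; ZMod.castHom dvd_rfl K

theorem zmod_two : ∀ z : ZMod 2, z = 0 ∨ z = 1 := by decide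

theorem inclK_range (x : K) : F4.frob x = x ↔ x ∈ inclK.range := by
  constructor
  · intro h
    rcases (fix_iff x).1 h with rfl | rfl
    · exact ⟨0, map_zero _⟩
    · exact ⟨1, map_one _⟩
  · rintro ⟨z, rfl⟩
    rcases zmod_two z with rfl | rfl <;> simp

theorem neg_two : ∀ z : ZMod 2, -z = z := by decide

theorem frobE_sq : frobE * frobE = 1 := RingEquiv.ext (by
  show ∀ x : K, F4.frob (F4.frob x) = x
  decide +kernel)

theorem frobE_order : orderOf frobE = 2 := by
  refine orderOf_eq_prime (by rw [pow_two, frobE_sq]) fun h => ?_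
  exact absurd (RingEquiv.congr_fun h F4.w)
    (show ¬ F4.frob F4.w = F4.w by decide +kernel)

theorem field_cases (τ : K ≃+* K) : τ = 1 ∨ τ = frobE := by
  have key : ∀ t : K, t * t = t + 1 → t = F4.w ∨ t = F4.w' := by decide +kernel
  have hw : τ F4.w * τ F4.w = τ F4.w + 1 := by
    rw [← map_mul, show (F4.w * F4.w : K) = F4.w + 1 by decide +kernel, map_add, map_one]
  have h1 : τ F4.w' = τ F4.w + 1 := by
    rw [show (F4.w' : K) = F4.w + 1 by decide +kernel, map_add, map_one]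
  rcases key _ hw with e | e
  · refine Or.inl (RingEquiv.ext fun x => ?_)
    cases x
    · exact map_zero τ
    · exact map_one τ
    · exact e
    · rw [h1, e]; exact (by decide +kernel : (F4.w : K) + 1 = F4.w')
  · refine Or.inr (RingEquiv.ext fun x => ?_)
    cases x
    · exact (map_zero τ).trans (map_zero F4.frob).symm
    · exact (map_one τ).trans (map_one F4.frob).symm
    · exact e.trans (by decide +kernel : (F4.w' : K) = F4.frob F4.w)
    · rw [h1, e]; exact (by decide +kernel : (F4.w' : K) + 1 = F4.frob F4.w')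

theorem dG_det : dM.det = F4.w := by decide +kernel

theorem conjA_split (g : Cfsg.GU 6 K 2) : ∃ (x : Pu) (k : ℕ), AutPSU.conjA g = MulAut.conj x * δ ^ k := by
  have hne : (gmat g.1).det ≠ 0 := Matrix.GeneralLinearGroup.det_ne_zero g.1
  obtain ⟨k, hk⟩ : ∃ k : Fin 3, (gmat g.1).det * F4.w ^ k.val = 1 :=
    (by decide +kernel : ∀ a : K, a ≠ 0 → ∃ k : Fin 3, a * F4.w ^ k.val = 1) _ hne
  set d : Cfsg.GU 6 K 2 := ⟨dG, dG_mem⟩
  have hdet : (gmat (g * d ^ k.val).1).det = 1 := by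
    show (gmat g.1 * gmat (dG ^ k.val)).det = 1
    rw [Matrix.det_mul, show gmat (dG ^ k.val) = dM ^ k.val from Units.val_pow_eq_pow_val _ _,
      Matrix.det_pow, dG_det, hk]
  let s : Su := ⟨⟨gmat (g * d ^ k.val).1, hdet⟩, (mem_SU_iff frob_sq _).2 fun u v =>
    AutPSU.hB_gmat uctx (g * d ^ k.val) u v⟩
  have hs : g * d ^ k.val = AutPSU.suToGU s := Subtype.ext (Units.ext rfl)
  refine ⟨AutPSU.mkU s, 2 * k.val, ?_⟩
  have h3 : δ ^ 3 = 1 := by
    rw [δ, ← map_pow, show (⟨dG, dG_mem⟩ : Cfsg.GU 6 K 2) ^ 3 = 1 from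
      Subtype.ext (Units.ext (by show dM ^ 3 = 1; rw [pow_succ, pow_two, dM_mul])), map_one]
  rw [← AutPSU.conjA_suToGU, ← hs, map_mul, map_pow, mul_assoc, show AutPSU.conjA d = δ from rfl,
    ← pow_add, show k.val + 2 * k.val = 3 * k.val by ring, pow_mul, h3, one_pow, mul_one]

theorem aut_decomp (β : MulAut Pu) :
    ∃ (g : Cfsg.GU 6 K 2) (τ : K ≃+* K), β = AutPSU.conjA g * AutPSU.fieldA τ := by
  have := charK
  have : Fact (Nat.Prime 2) := ⟨Nat.prime_two⟩
  exact AutPSU.exists_decomp uctx 2 (by norm_num) (by omega) β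

theorem aut_closure :
    Subgroup.closure (Set.range (MulAut.conj : Pu → MulAut Pu) ∪ {δ, φF}) = ⊤ := by
  refine eq_top_iff.2 fun β _ => ?_
  set C := Subgroup.closure (Set.range (MulAut.conj : Pu → MulAut Pu) ∪ {δ, φF})
  obtain ⟨g, τ, rfl⟩ := aut_decomp β
  obtain ⟨x, k, hx⟩ := conjA_split g
  rw [hx]
  have hδ : δ ∈ C := Subgroup.subset_closure (Or.inr (Or.inl rfl))
  refine mul_mem (mul_mem (Subgroup.subset_closure (Or.inl ⟨x, rfl⟩)) (pow_mem hδ k)) ?_
  rcases field_cases τ with rfl | rfl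
  · rw [map_one]; exact one_mem C
  · exact Subgroup.subset_closure (Or.inr (Or.inr rfl))

theorem conj_of_inner_diag (g : Cfsg.GU 6 K 2) (h : AutPSU.conjA g * AutPSU.conjA g = (1 : MulAut Pu)) :
    ∃ x : Pu, AutPSU.conjA g = MulAut.conj x := by
  obtain ⟨x, k, hx⟩ := conjA_split g
  have h3 : δ ^ 3 = 1 := by
    rw [δ, ← map_pow, show (⟨dG, dG_mem⟩ : Cfsg.GU 6 K 2) ^ 3 = 1 from
      Subtype.ext (Units.ext (by show dM ^ 3 = 1; rw [pow_succ, pow_two, dM_mul])), map_one]
  set I : Subgroup (MulAut Pu) := (MulAut.conj : Pu →* MulAut Pu).range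
  have hI : ∀ (β : MulAut Pu), ∀ y ∈ I, β * y * β⁻¹ ∈ I := by
    rintro β _ ⟨y, rfl⟩
    exact ⟨β y, MulEquiv.ext fun z => by simp [MulAut.conj_apply]⟩
  set D := δ ^ k with hD
  have h2 : D * D ∈ I := by
    have e : D * D = (D * MulAut.conj x * D⁻¹)⁻¹ * (MulAut.conj x)⁻¹ := by
      rw [hx] at h
      calc D * D = (D * MulAut.conj x * D⁻¹)⁻¹ * (MulAut.conj x)⁻¹ *
            (MulAut.conj x * D * (MulAut.conj x * D)) := by group
        _ = _ := by rw [h, mul_one]
    rw [e]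
    exact mul_mem (inv_mem (hI D _ ⟨x, rfl⟩)) (inv_mem ⟨x, rfl⟩)
  obtain ⟨y, hy⟩ := pow_mem h2 2
  refine ⟨x * y, ?_⟩
  rw [hx, map_mul, show (MulAut.conj y : MulAut Pu) = _ from hy]
  congr 1
  rw [hD, ← pow_add, ← pow_mul, show (k + k) * 2 = k + 3 * k by ring, pow_add, pow_mul, h3, one_pow, mul_one]

/-- A half basis. -/
def hM : Matrix (Fin 6) (Fin 6) K :=
  Matrix.of fun r l => if r.1 / 2 = l.1 / 2 then
    (if l.1 % 2 = 0 then F4.e else if r.1 % 2 = 0 then F4.w else F4.w') else F4.o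

/-- Its inverse. -/
def hMi : Matrix (Fin 6) (Fin 6) K :=
  Matrix.of fun r l => if r.1 / 2 = l.1 / 2 then
    (if r.1 % 2 = 1 then F4.e else if l.1 % 2 = 0 then F4.w' else F4.w) else F4.o

/-- The alternating form. -/
def altJ : Matrix (Fin 6) (Fin 6) (ZMod 2) :=
  Matrix.of fun r l => if r.1 / 2 = l.1 / 2 ∧ r ≠ l then 1 else 0

theorem half_tab : hM * hMi = 1 ∧ hMi * hM = 1 ∧
    (genM 5 * genM 7 * genM 9) * hM.map F4.frob = hM ∧
    (genM 5 * genM 7 * genM 9).map F4.frob = genM 5 * genM 7 * genM 9 ∧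
    altJ.map (fun z => if z = 0 then F4.o else F4.e) = (hM.map F4.frob).transpose * hM ∧
    (∀ v : Fin 6 → ZMod 2, v ⬝ᵥ altJ *ᵥ v = 0) := by
  refine ⟨?_, ?_, ?_, ?_, ?_, ?_⟩ <;> decide +kernel

theorem altJ_map : altJ.map inclK = altJ.map (fun z => if z = 0 then F4.o else F4.e) := by
  ext r l
  show inclK (altJ r l) = if altJ r l = 0 then F4.o else F4.e
  rcases zmod_two (altJ r l) with e | e <;> rw [e] <;> simp <;> rfl

theorem altJ_det : altJ.det ≠ 0 := by decide +kernel

theorem outer_cases {β : MulAut Pu} (h : β * β = 1) (hb : ∀ x, β ≠ MulAut.conj x) :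
    IsConj φF β ∨ IsConj (φF * MulAut.conj (invol 2)) β := by
  have := charK
  have : Fact (Nat.Prime 2) := ⟨Nat.prime_two⟩
  have hne : β ≠ 1 := fun e => hb 1 (by rw [e, map_one])
  have ho : orderOf β = 2 := orderOf_eq_prime (by rw [pow_two, h]) hne
  obtain ⟨g, τ, rfl⟩ := aut_decomp β
  rcases field_cases τ with rfl | rfl
  · rw [map_one, mul_one] at h hb
    obtain ⟨x, hx⟩ := conj_of_inner_diag g h
    exact absurd hx (hb x)
  have hcls : Cfsg.IsGraphAutClassPSU (AutPSU.conjA g * AutPSU.fieldA frobE : MulAut Pu) :=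
    ⟨by norm_num, _, _, frobE, by rw [frobE_order]; exact even_two, AutPSU.isInnerDiagonal_iff.2 ⟨g, rfl⟩,
      AutPSU.isFieldAutOf_iff.2 rfl, rfl⟩
  have hσe : ∀ x, frobE x = F4.frob x := fun _ => rfl
  obtain ⟨g', R, hg', hR, hreal⟩ := AutPSU.graph_cases uctx hσe inclK_range 2 hcls ho
  rw [hg']
  have hRT : Rᵀ = R := hR.elim id fun e => e.trans (Matrix.ext fun r l =>
    neg_two (R r l))
  have hd := AutPSU.real_det_ne_zero uctx hreal
  have key : ∀ {g₀ : Cfsg.GU 6 K 2} {R₀ : Matrix (Fin 6) (Fin 6) (ZMod 2)},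
      AutPSU.IsReal F4.frob frobE inclK g₀ R₀ → Sim R₀ R →
      IsConj (AutPSU.conjA g₀ * AutPSU.fieldA frobE : MulAut Pu)
        (AutPSU.conjA g' * AutPSU.fieldA frobE) := fun {g₀ R₀} h₀ hs => by
    obtain ⟨c, -, e⟩ := (AutPSU.conjUnder_iff uctx hσe inclK_range 2 (by norm_num) h₀ hreal).2 hs
    exact isConj_iff.2 ⟨c, e.symm⟩
  by_cases hA : IsAltMat R
  · right
    set P : Su := gS 5 * gS 7 * gS 9 with hP
    obtain ⟨t1, t2, t3, t4, t5, t6⟩ := half_tab
    have hPm : gmat (AutPSU.suToGU P).1 = genM 5 * genM 7 * genM 9 := rfl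
    have hfix : AutPSU.fieldGU frobE (AutPSU.suToGU P) = AutPSU.suToGU P :=
      Subtype.ext (Units.ext (by
        show (gmat (AutPSU.suToGU P).1).map frobE = gmat (AutPSU.suToGU P).1
        rw [hPm]; exact t4))
    have e : φF * MulAut.conj (invol 2) = AutPSU.conjA (AutPSU.suToGU P) * AutPSU.fieldA frobE := by
      rw [show invol 2 = AutPSU.mkU P by rw [hP, map_mul, map_mul]; rfl, ← AutPSU.conjA_suToGU, φF,
        AutPSU.conjA_field, hfix]
    rw [e]
    refine key (R₀ := altJ) ?_ ?_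
    · refine ⟨⟨hM, hMi, t1, t2⟩, 1, 1, one_ne_zero, ?_, ?_⟩
      · rw [one_smul]
        exact altJ_map.trans t5
      · rw [show AutPSU.sc 6 (1 : Kˣ) = 1 from map_one _, one_mul, eq_mul_inv_iff_mul_eq]
        exact Units.ext t3
    · have hJ : altJ.det ≠ 0 := altJ_det
      obtain ⟨m, hm, hs⟩ := GraphForms.alt_sim (J := altJ) t6 hJ
      obtain ⟨m', hm', hs'⟩ := GraphForms.alt_sim hA hd
      obtain rfl : m = m' := by omega
      exact hs.trans hs'.symm
  · left
    have e : φF = AutPSU.conjA (1 : Cfsg.GU 6 K 2) * AutPSU.fieldA frobE := by rw [map_one, one_mul]; rfl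
    rw [e]
    refine key (AutPSU.isReal_one uctx hσe inclK_range) ?_
    exact GraphForms.nonAlt_sim Matrix.transpose_one hRT (by simp) hd
      (fun hI => absurd (hI (Pi.single 0 1)) (by simp)) hA rfl

end Cfsg.Agent.U62Mod
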