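import Cfsg.Agent.U62Mod.ClassesTab
import Cfsg.Agent.AutPSU.Rigid
import Cfsg.Agent.ThreeTrans.InvolM22
import Cfsg.Agent.ThreeTrans.UnitFrame

/-!
# Generation and involutions of `PSU(6, 2)`

The eleven generators generate, and every involution is conjugate to one of three products of
commuting transvections.
-/

set_option autoImplicit false
set_option maxRecDepth 100000

namespace Cfsg.Agent.U62Mod

open Cfsg.Agent.Classical Cfsg.Agent.Classical.Herm Cfsg.Agent.ThreeTrans.SU32
open Cfsg.Agent.ThreeTrans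
open scoped Matrix

/-- The form. -/
abbrev B6 : (Fin 6 → K) →ₛₗ[F4.frob] (Fin 6 → K) →ₗ[K] K := hermB 6 F4.frob

theorem uctx : AutPSU.UCtx F4.frob 2 := ⟨F4.frob_invol, frob_sq, F4.card_fix, one_lt_two⟩

theorem space6 : UModel.Space B6 :=
  ⟨hermB_isHerm F4.frob_invol 6, inferInstance, inferInstance, by rw [Module.finrank_fin_fun],
    by decide +kernel⟩

/-- The group of isometries of determinant one. -/
noncomputable def toSuG : Su ≃* suG B6 := suEquiv 6 frob_sq

theorem toSuG_apply (s : Su) (x : Fin 6 → K) : (toSuG s).1 x = AutPSU.mat s *ᵥ x :=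
  suEquiv_apply frob_sq s x

/-- The projection. -/
noncomputable def prj : suG B6 →* Pu := AutPSU.mkU.comp toSuG.symm.toMonoidHom

theorem prj_toSuG (s : Su) : prj (toSuG s) = AutPSU.mkU s := by
  show AutPSU.mkU (toSuG.symm (toSuG s)) = _
  rw [MulEquiv.symm_apply_apply]

theorem cast_vec (v : Fin 6 → K) : ![v 0, v 1, v 2, v 3, v 4, v 5] = v := by
  funext i; fin_cases i <;> rfl

theorem vNorm_eq (v : Fin 6 → K) : B6 v v = vNorm v := by
  rw [hermB_apply]
  simp only [Fin.sum_univ_six, vNorm]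
  ring

/-- The three base vectors of the standard plane. -/
def planeU (i : Fin 3) : Fin 6 → K := fun j => if j.1 / 2 = i.1 then F4.e else F4.o

/-- Their duals. -/
def planeV (i : Fin 3) : Fin 6 → K :=
  fun j => if j.1 = 2 * i.1 then F4.w else if j.1 = 2 * i.1 + 1 then F4.w' else F4.o

theorem plane_tab : (∀ i j : Fin 3, B6 (planeU i) (planeU j) = 0) ∧
    (∀ i j : Fin 3, B6 (planeV i) (planeV j) = 0) ∧
    (∀ i j : Fin 3, B6 (planeV i) (planeU j) = if i = j then 1 else 0) := by
  simp only [hermB_apply, Fin.sum_univ_six]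
  decide +kernel

/-- The standard frame. -/
def frame : UModel.Frame B6 := ⟨planeU, planeV, plane_tab.1, plane_tab.2.1, plane_tab.2.2⟩

/-- An entry of a generator. -/
def gEntry (k : Fin 11) (r l : Fin 6) : K := genM k r l

theorem gen_tr_tab : ∀ i : Fin 3, ∀ r l : Fin 6, gEntry (Fin.ofNat 11 (5 + 2 * i.1)) r l =
    (if r = l then F4.e else F4.o) + planeU i r * F4.frob (planeU i l) := by
  decide +kernel

theorem gen_tr (i : Fin 3) :
    toSuG (gS (Fin.ofNat 11 (5 + 2 * i.1))) = UModel.trv space6 (planeU i) := by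
  refine UModel.ext_suG space6 fun v => funext fun r => ?_
  rw [toSuG_apply, UModel.trv_apply space6 (plane_tab.1 i i), hermB_apply]
  show ∑ l, genM (Fin.ofNat 11 (5 + 2 * i.1)) r l * v l =
    v r + (∑ l, F4.frob (planeU i l) * v l) * planeU i r
  simp only [show ∀ r l, genM (Fin.ofNat 11 (5 + 2 * i.1)) r l = _ from gen_tr_tab i, add_mul, Finset.sum_add_distrib, ite_mul,
    show (F4.e : K) = 1 from rfl, show (F4.o : K) = 0 from rfl, one_mul, zero_mul,
    Finset.sum_ite_eq, Finset.mem_univ, if_true, Finset.sum_mul]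
  exact congrArg (v r + ·) (Finset.sum_congr rfl fun l _ => by ring)

theorem gAct_eq (k : Fin 11) (v : Fin 6 → K) : (toSuG (gS k)).1 v = gAct k v := toSuG_apply _ _

theorem code_tab : ∀ a b c d x y : K,
    (vCode ![a, b, c, d, x, y] = 0 → ∀ l, (![a, b, c, d, x, y] : Fin 6 → K) l = 0) ∧
    (vCode ![a, b, c, d, x, y] = 5 → ∀ l, (![a, b, c, d, x, y] : Fin 6 → K) l = planeU 0 l) := by
  decide +kernel

theorem gAct_iso (k : Fin 11) {v : Fin 6 → K} (h : B6 v v = 0) : B6 (gAct k v) (gAct k v) = 0 := by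
  rw [← gAct_eq, (toSuG (gS k)).2.1, h]

theorem gAct_eq_zero (k : Fin 11) {v : Fin 6 → K} (h : gAct k v = 0) : v = 0 := by
  rw [← gAct_eq] at h
  exact (toSuG (gS k)).1.injective (h.trans (map_zero _).symm)

theorem gP_generate : Subgroup.closure (Set.range gP) = ⊤ := by
  set H := Subgroup.closure (Set.range gP)
  set S : Subgroup (suG B6) := H.comap prj
  have hg : ∀ k, toSuG (gS k) ∈ S := fun k => by
    show prj _ ∈ H
    rw [prj_toSuG]
    exact Subgroup.subset_closure ⟨k, rfl⟩
  have step : ∀ k v, UModel.trv space6 (gAct k v) ∈ S → UModel.trv space6 v ∈ S := fun k v hv => by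
    rw [← gAct_eq, ← UModel.trv_conj space6] at hv
    have := mul_mem (mul_mem (inv_mem (hg k)) hv) (hg k)
    simpa [mul_assoc] using this
  have all : ∀ n, ∀ v : Fin 6 → K, vCode v = n → B6 v v = 0 → v ≠ 0 → UModel.trv space6 v ∈ S := by
    intro n
    induction n using Nat.strong_induction_on with
    | _ n ih =>
      intro v hn hv hv0
      subst hn
      rcases eq_or_ne (vCode v) 5 with h5 | h5
      · have h := funext ((code_tab (v 0) (v 1) (v 2) (v 3) (v 4) (v 5)).2 (by rw [cast_vec]; exact h5))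
        rw [cast_vec] at h
        rw [h, ← gen_tr 0]
        exact hg _
      obtain ⟨w, -, hw⟩ := desc_tab (v 0) (v 1) (v 2) (v 3) (v 4) (v 5)
        (by rw [cast_vec, ← vNorm_eq]; exact hv)
        (fun h => hv0 (by
          have h' := funext ((code_tab (v 0) (v 1) (v 2) (v 3) (v 4) (v 5)).1 h)
          rw [cast_vec] at h'
          exact h'))
        (by rw [cast_vec]; exact h5)
      rw [cast_vec] at hw
      have back : ∀ (w : List (Fin 11)) (u : Fin 6 → K), B6 u u = 0 → u ≠ 0 →
          vCode (wAct w u) < vCode v → UModel.trv space6 u ∈ S := by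
        intro w
        induction w with
        | nil => intro u h1 h2 h3; exact ih _ h3 u rfl h1 h2
        | cons k w hw' =>
          intro u h1 h2 h3
          exact step k u (hw' _ (gAct_iso k h1) (fun h => h2 (gAct_eq_zero k h)) h3)
      exact back w v hv hv0 hw
  have hle : Subgroup.closure {A : Su | ∃ (v : Fin 6 → K) (c : K), hermB 6 F4.frob v v = 0 ∧
      ((A : Matrix.SpecialLinearGroup (Fin 6) K) : Matrix (Fin 6) (Fin 6) K) =
        Cfsg.unitaryTransvection 6 2 v c} ≤ H.comap AutPSU.mkU := by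
    refine (Subgroup.closure_le _).2 ?_
    rintro A ⟨v, c, hv, hA⟩
    show AutPSU.mkU A ∈ H
    rw [← prj_toSuG]
    obtain ⟨c', hc', hA'⟩ := transvection_mem_cases F4.frob_invol frob_sq A hv hA
    have hc : c' = 0 ∨ c' = 1 :=
      (by decide +kernel : ∀ c : K, c + F4.frob c = 0 → c = 0 ∨ c = 1) c' hc'
    by_cases h0 : c' = 0 ∨ v = 0
    · have : toSuG A = 1 := UModel.ext_suG space6 fun x => by
        show (suEquiv 6 frob_sq A).1 x = x
        rw [hA', tvU_apply]
        rcases h0 with h | h <;> simp [h]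
      rw [this]
      exact one_mem S
    push Not at h0
    have : toSuG A = UModel.trv space6 v := UModel.ext_suG space6 fun x => by
      show (suEquiv 6 frob_sq A).1 x = _
      rw [hA', tvU_apply, UModel.trv_apply space6 hv, hc.resolve_left h0.1]
      simp
    rw [this]
    exact all _ v rfl hv h0.2
  rw [closure_unitaryTransvection F4.frob_invol frob_sq F4.card_fix (by norm_num) (by omega)] at hle
  refine eq_top_iff.2 fun x _ => ?_
  obtain ⟨s, rfl⟩ := AutPSU.mkU_surjective x
  exact hle (Subgroup.mem_top s)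

theorem prj_gen (i : Fin 3) :
    prj (UModel.trv space6 (planeU i)) = gP (Fin.ofNat 11 (5 + 2 * i.1)) := by
  rw [← gen_tr, prj_toSuG]
  rfl

theorem invol_eq : invol 0 = prj (UModel.trv space6 (planeU 0)) ∧
    invol 1 = prj (UModel.trv space6 (planeU 0) * UModel.trv space6 (planeU 1)) ∧
    invol 2 = prj (UModel.trv space6 (planeU 0) * UModel.trv space6 (planeU 1) *
      UModel.trv space6 (planeU 2)) := by
  simp only [map_mul, prj_gen]
  exact ⟨rfl, rfl, rfl⟩

theorem invol_cases {x : Pu} (h : x * x = 1) (h1 : x ≠ 1) : ∃ j, IsConj (invol j) x := by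
  obtain ⟨s, rfl⟩ := AutPSU.mkU_surjective x
  have hc : s * s ∈ Subgroup.center Su := AutPSU.mkU_eq_one_iff.1 (by rw [map_mul]; exact h)
  have h6 : (s * s) ^ 3 = 1 := by
    obtain ⟨a, ha⟩ := AutPSU.center_scalar uctx (by norm_num) hc
    refine AutPSU.su_ext_mulVec fun v => ?_
    have ha0 : a ≠ 0 := fun h0 => AutPSU.mat_mulVec_ne_zero (s * s) (v := Pi.single 0 1)
      (fun h => one_ne_zero (α := K) (by simpa using congrFun h 0)) (by rw [ha, h0, zero_smul])
    generalize s * s = z at ha ⊢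
    have e : ∀ u : Fin 6 → K, AutPSU.mat (z ^ 3) *ᵥ u = (a * (a * a)) • u := fun u => by
      rw [pow_succ', pow_two, AutPSU.mat_mul_mulVec, AutPSU.mat_mul_mulVec, ha, ha, ha, smul_smul, smul_smul]
      congr 1
      ring
    rw [e, AutPSU.mat_one_mulVec, (by decide +kernel : ∀ a : K, a ≠ 0 → a * (a * a) = 1) a ha0, one_smul]
  set g := toSuG (s ^ 3) with hg
  have hgp : prj g = AutPSU.mkU s := by
    rw [hg, prj_toSuG, map_pow, pow_succ, pow_two, h, one_mul]
  have hgg : g * g = 1 := by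
    rw [hg, ← map_mul, ← pow_add, show (3 + 3 : ℕ) = 2 * 3 from rfl, pow_mul, pow_two, h6, map_one]
  have conj1 : ∀ {p q : Fin 6 → K} {r : suG B6}, (∃ k : K, k ≠ 0 ∧ r.1 p = k • q) →
      r * UModel.trv space6 p * r⁻¹ = UModel.trv space6 q := fun {p q r} hk => by
    obtain ⟨k, hk, e⟩ := hk
    rw [UModel.trv_conj, e, UModel.trv_smul space6 hk]
  obtain ⟨e0, e1, e2⟩ := invol_eq
  have fin : ∀ (r : suG B6) (j : Fin 3), invol j = prj (r * g * r⁻¹) → IsConj (invol j) (AutPSU.mkU s) :=
    fun r j e => (isConj_iff.2 ⟨prj r, by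
      rw [e, ← hgp, map_mul, map_mul, map_inv]⟩ : IsConj (AutPSU.mkU s) (invol j)).symm
  have hu0 : ∀ i, planeU i ≠ 0 := fun i hi => by
    have := plane_tab.2.2 i i
    rw [hi] at this
    simp at this
  have hind : ∀ k : K, planeU 1 ≠ k • planeU 0 := fun k hk => by
    have := congrArg (B6 (planeV 1)) hk
    rw [map_smul, plane_tab.2.2, plane_tab.2.2] at this
    simp at this
  rcases UModel.involution_eq space6 hgg with hg1 | ⟨a, ha⟩ | ⟨a, b, hab, hind', hb⟩ |
      ⟨a, b, c, hab, hac, hbc, hind', hind2, hc⟩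
  · exact absurd (by rw [← hgp, hg1, map_one]) h1
  · obtain ⟨r, hr⟩ := UModel.move_point space6 a.2.1 a.2.2 (hu0 0) (plane_tab.1 0 0)
    refine ⟨0, fin r 0 ?_⟩
    rw [e0, ha, ← UModel.trv_pt space6 a, conj1 hr]
  · obtain ⟨r, hr, hr'⟩ := UModel.move_pair space6 a.2.1 a.2.2 b.2.2 hab hind' (hu0 0) (plane_tab.1 0 0)
      (plane_tab.1 1 1) (plane_tab.1 0 1) hind
    refine ⟨1, fin r 1 ?_⟩
    rw [e1, hb, ← UModel.trv_pt space6 a, ← UModel.trv_pt space6 b, ← conj1 hr, ← conj1 hr']
    simp only [mul_assoc, inv_mul_cancel_left]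
  · obtain ⟨r, hr, hr', hr''⟩ := UModel.move_triple space6 a.2.1 a.2.2 b.2.2 c.2.2 hab hac hbc hind' hind2 frame
    refine ⟨2, fin r 2 ?_⟩
    rw [e2, hc, ← UModel.trv_pt space6 a, ← UModel.trv_pt space6 b, ← UModel.trv_pt space6 c,
      show planeU 0 = frame.u 0 from rfl, show planeU 1 = frame.u 1 from rfl,
      show planeU 2 = frame.u 2 from rfl, ← conj1 hr, ← conj1 hr', ← conj1 hr'']
    simp only [mul_assoc, inv_mul_cancel_left]

end Cfsg.Agent.U62Mod
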