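import Cfsg.Agent.U62Mod.Gens

/-!
# A descent on the isotropic vectors

Every nonzero isotropic vector other than the first one is carried by a word in the eleven generators
to one with smaller code.
-/

set_option autoImplicit false
set_option maxRecDepth 100000

namespace Cfsg.Agent.U62Mod

open Cfsg.Agent.ThreeTrans.SU32
open scoped Matrix

/-- The digit of a scalar. -/
def kDig : K → ℕ
  | .o => 0
  | .e => 1
  | .w => 2
  | .w' => 3

/-- The code of a vector. -/
def vCode (v : Fin 6 → K) : ℕ :=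
  kDig (v 0) + 4 * (kDig (v 1) + 4 * (kDig (v 2) + 4 * (kDig (v 3) + 4 * (kDig (v 4) + 4 * kDig (v 5)))))

/-- A generator on a vector. -/
def gAct (k : Fin 11) (v : Fin 6 → K) : Fin 6 → K := genM k *ᵥ v

/-- A word on a vector, first letter first. -/
def wAct : List (Fin 11) → (Fin 6 → K) → Fin 6 → K
  | [], v => v
  | k :: w, v => wAct w (gAct k v)

/-- The words of the descent. -/
def descWords : List (List (Fin 11)) :=
  [[5], [6], [7], [8], [9], [0], [1], [2], [3], [4], [10], [0, 4], [0, 3, 10, 2], [2, 2, 10, 2], [1, 5, 10]]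

/-- A decidable form of the norm. -/
def vNorm (v : Fin 6 → K) : K :=
  F4.frob (v 0) * v 0 + (F4.frob (v 1) * v 1 + (F4.frob (v 2) * v 2 +
    (F4.frob (v 3) * v 3 + (F4.frob (v 4) * v 4 + F4.frob (v 5) * v 5))))

theorem desc_tab : ∀ a b c d x y : K,
    vNorm ![a, b, c, d, x, y] = 0 → vCode ![a, b, c, d, x, y] ≠ 0 → vCode ![a, b, c, d, x, y] ≠ 5 →
      ∃ w ∈ descWords, vCode (wAct w ![a, b, c, d, x, y]) < vCode ![a, b, c, d, x, y] := by
  decide +kernel

end Cfsg.Agent.U62Mod
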