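/-! Data: the twenty-dimensional model and the certificates for its uniqueness. -/

set_option autoImplicit false
set_option maxRecDepth 100000

namespace Cfsg.Agent.U62Mod

/-- Packed matrices of the generators -/
def genC : List Nat := [
  0x40010004001000c002,
  0x400100040030008001,
  0x4001000c0020004001,
  0x400300080010004001,
  0x400100040020008002,
  0x400100040010001004,
  0x400100040004010001,
  0x400100010040004001,
  0x400040100010004001,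
  0x100400040010004001,
  0x40010004002d039015]

/-- The model of the generators -/
def modC : List Nat := [
  0xc00008000030000200000c00008000030000200000c000080000300002000008000040000200001000008000040000200001,
  0x80000400002000010000080000400001000030000040000c000010000300000c00008000030000200000c000080000200001,
  0x80000400001000030000040000c000030000200000c0000800002000010000080000400002000010000040000c0000300002,
  0x40000c00003000020000080000400002000010000040000c000030000200000800004000010000300000c000080000200001,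
  0xc00008000030000200000c0000800001000030000040000c00001000030000040000c00001000030000040000c0000200001,
  0x3000010000c000040003000010000c000040003000010000c0000400000008000040000200001000008000040000200001,
  0x8000040000200001000008000040000008000040000200001000008000040200001000008000040000200001000000200001,
  0x8000040000020000100000800004002000010000080000400000200001000008000040000200001000002000010000800004,
  0x2000010000800004000008000040000200001000002000010000800004000008000040000080000400020000100000200001,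
  0x8000040000080000400020000100000080000400020000100000200001000002000010000800004000008000040000200001,
  0x8030c4010420c30104100b0c0050400d0c0070803043010c20c010c403080f040060c030c1010830c03044020c0000200001]

/-- A word exchanging the two halves -/
def swapW : List Nat := [7, 6, 5, 8, 7, 6, 9, 8, 7]

/-- Words moving the first pair to each pair -/
def repW : List (List Nat) := [
  [],
  [7],
  [8, 7],
  [9, 8, 7],
  [6, 7],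
  [6, 8, 7],
  [6, 9, 8, 7],
  [7, 6, 8, 7],
  [7, 6, 9, 8, 7],
  [8, 7, 6, 9, 8, 7]]

/-- Images of the basis under the monomial generators -/
def monTab : List (Nat × Nat × List Nat) := [
  (0, 0, [0]),
  (0, 1, [0]),
  (1, 0, [0]),
  (1, 1, [0]),
  (2, 0, [0]),
  (2, 1, [0]),
  (3, 0, [0]),
  (3, 1, [0]),
  (4, 1, [0, 1]),
  (4, 2, [0, 1]),
  (5, 1, [0, 1]),
  (5, 2, [0, 1]),
  (6, 1, [0, 1]),
  (6, 2, [0, 1]),
  (7, 1, [0, 1]),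
  (7, 2, [0, 1]),
  (8, 1, [0, 1]),
  (8, 2, [0, 1]),
  (9, 1, [0, 1]),
  (9, 2, [0, 1]),
  (0, 0, [1]),
  (0, 1, [1]),
  (1, 1, [1]),
  (1, 2, [1]),
  (2, 1, [1]),
  (2, 2, [1]),
  (3, 1, [1]),
  (3, 2, [1]),
  (4, 2, [1, 1]),
  (4, 0, [1, 1]),
  (5, 2, [1, 1]),
  (5, 0, [1, 1]),
  (6, 2, [1, 1]),
  (6, 0, [1, 1]),
  (7, 0, [3]),
  (7, 1, [3]),
  (8, 0, [3]),
  (8, 1, [3]),
  (9, 0, [3]),
  (9, 1, [3]),
  (0, 1, []),
  (0, 2, []),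
  (1, 2, []),
  (1, 0, []),
  (2, 0, [3]),
  (2, 1, [3]),
  (3, 0, [3]),
  (3, 1, [3]),
  (4, 0, [1]),
  (4, 1, [1]),
  (5, 1, [1, 3]),
  (5, 2, [1, 3]),
  (6, 1, [1, 3]),
  (6, 2, [1, 3]),
  (7, 2, [1, 1, 3, 3]),
  (7, 0, [1, 1, 3, 3]),
  (8, 2, [1, 1, 3, 3]),
  (8, 0, [1, 1, 3, 3]),
  (9, 0, [11, 1, 11]),
  (9, 1, [11, 1, 11]),
  (0, 0, [3]),
  (0, 1, [3]),
  (1, 1, [3]),
  (1, 2, [3]),
  (2, 2, [3, 3]),
  (2, 0, [3, 3]),
  (3, 0, [11, 1, 11]),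
  (3, 1, [11, 1, 11]),
  (4, 1, [3]),
  (4, 2, [3]),
  (5, 2, [3, 3]),
  (5, 0, [3, 3]),
  (6, 0, [11, 1, 11]),
  (6, 1, [11, 1, 11]),
  (7, 0, [1]),
  (7, 1, [1]),
  (8, 1, [0, 3, 3]),
  (8, 2, [0, 3, 3]),
  (9, 2, [0, 0, 3]),
  (9, 0, [0, 0, 3]),
  (0, 0, [0, 1, 1]),
  (0, 1, [0, 1, 1]),
  (1, 2, [0, 1, 1]),
  (1, 0, [0, 1, 1]),
  (2, 2, [0, 1, 1]),
  (2, 0, [0, 1, 1]),
  (3, 2, [0, 1, 1]),
  (3, 0, [0, 1, 1]),
  (4, 2, [0, 1, 1]),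
  (4, 0, [0, 1, 1]),
  (5, 2, [0, 1, 1]),
  (5, 0, [0, 1, 1]),
  (6, 2, [0, 1, 1]),
  (6, 0, [0, 1, 1]),
  (7, 1, [0, 1, 3, 3]),
  (7, 2, [0, 1, 3, 3]),
  (8, 1, [0, 1, 3, 3]),
  (8, 2, [0, 1, 3, 3]),
  (9, 1, [0, 1, 3, 3]),
  (9, 2, [0, 1, 3, 3]),
  (0, 0, [5]),
  (0, 1, [5]),
  (1, 0, [5]),
  (1, 1, [5]),
  (2, 0, [5]),
  (2, 1, [5]),
  (3, 0, [5]),
  (3, 1, [5]),
  (9, 0, [11]),
  (9, 2, [0, 3, 11]),
  (8, 0, [11]),
  (8, 2, [0, 3, 11]),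
  (7, 0, [11]),
  (7, 2, [0, 3, 11]),
  (6, 0, [11]),
  (6, 2, [0, 3, 11]),
  (5, 0, [11]),
  (5, 2, [0, 3, 11]),
  (4, 0, [11]),
  (4, 2, [0, 3, 11]),
  (0, 0, [6]),
  (0, 1, [1, 6]),
  (4, 0, []),
  (4, 1, []),
  (5, 0, []),
  (5, 1, []),
  (6, 0, []),
  (6, 1, []),
  (1, 0, []),
  (1, 1, []),
  (2, 0, []),
  (2, 1, []),
  (3, 0, []),
  (3, 1, []),
  (7, 0, [8]),
  (7, 1, [3, 8]),
  (8, 0, [8]),
  (8, 1, [3, 8]),
  (9, 0, [8]),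
  (9, 1, [3, 8]),
  (1, 0, []),
  (1, 1, []),
  (0, 0, []),
  (0, 1, []),
  (2, 0, [8]),
  (2, 1, [3, 8]),
  (3, 0, [8]),
  (3, 1, [3, 8]),
  (4, 0, [6]),
  (4, 1, [1, 6]),
  (7, 0, []),
  (7, 1, []),
  (8, 0, []),
  (8, 1, []),
  (5, 0, []),
  (5, 1, []),
  (6, 0, []),
  (6, 1, []),
  (9, 0, [9]),
  (9, 1, [9]),
  (0, 0, [8]),
  (0, 1, [3, 8]),
  (2, 0, []),
  (2, 1, []),
  (1, 0, []),
  (1, 1, []),
  (3, 0, [9]),
  (3, 1, [9]),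
  (5, 0, []),
  (5, 1, []),
  (4, 0, []),
  (4, 1, []),
  (6, 0, [9]),
  (6, 1, [9]),
  (7, 0, [6]),
  (7, 1, [1, 6]),
  (9, 0, []),
  (9, 1, []),
  (8, 0, []),
  (8, 1, []),
  (0, 0, [9]),
  (0, 1, [9]),
  (1, 0, [9]),
  (1, 1, [9]),
  (3, 0, []),
  (3, 1, []),
  (2, 0, []),
  (2, 1, []),
  (4, 0, [9]),
  (4, 1, [9]),
  (6, 0, []),
  (6, 1, []),
  (5, 0, []),
  (5, 1, []),
  (8, 0, []),
  (8, 1, []),
  (7, 0, []),
  (7, 1, []),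
  (9, 0, [6]),
  (9, 1, [1, 6])]

/-- Exchanges on exponents -/
def swapTab : List (List (List Nat)) := [
  [[2, 0, 0, 0], [1, 1, 0, 0], [0, 0, 1, 0], [0, 0, 0, 1]],
  [[1, 1, 0, 0], [0, 2, 0, 0], [0, 1, 1, 0], [0, 0, 0, 1]],
  [[1, 0, 0, 0], [0, 1, 1, 0], [0, 0, 2, 0], [0, 0, 1, 1]],
  [[1, 0, 0, 0], [0, 1, 0, 0], [0, 0, 1, 1], [0, 0, 0, 2]],
  [[1, 0, 0, 0], [0, 1, 0, 0], [0, 0, 1, 0], [1, 2, 0, 2]]]

/-- Movers of functionals -/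
def orbTab : List (List (List Nat)) := [
  [],
  [[], [3], [3, 2], [3, 4], [3, 2, 1], [3, 2, 4], [3, 2, 1, 0], [3, 2, 1, 4], [3, 2, 4, 3], [3, 2, 1, 0, 4], [3, 2, 1, 4, 3]],
  [[], [3], [3, 2], [3, 4], [3, 2, 1], [3, 2, 4], [3, 2, 1, 0], [3, 2, 1, 4], [3, 2, 4, 3], [3, 2, 1, 0, 4], [3, 2, 1, 4, 3]],
  [[]],
  [[], [2], [4], [2, 1], [2, 3], [2, 4], [4, 3], [2, 1, 0], [2, 1, 3], [2, 1, 4], [2, 1, 0, 3]],
  [[], [2], [3], [4], [2, 1], [2, 4], [2, 1, 0], [2, 1, 4], [2, 4, 3], [2, 1, 0, 4], [2, 1, 4, 3]],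
  [[]],
  [[], [2], [3], [4], [2, 1], [2, 4], [2, 1, 0], [2, 1, 4], [2, 4, 3], [2, 1, 0, 4], [2, 1, 4, 3]],
  [[], [2], [4], [2, 1], [2, 3], [2, 4], [4, 3], [2, 1, 0], [2, 1, 3], [2, 1, 4], [2, 1, 0, 3]],
  [[4, 3, 2]],
  [[], [1], [3], [1, 0], [1, 3], [3, 2], [1, 0, 3], [1, 3, 2], [1, 3, 4], [1, 0, 3, 2], [1, 0, 3, 4]],
  [[3, 2]],
  [[], [1], [2], [1, 0], [1, 2], [1, 4], [2, 3], [1, 0, 2], [1, 0, 4], [1, 2, 1], [1, 2, 3]],
  [[], [1], [3], [1, 0], [1, 2], [1, 3], [3, 2], [3, 4], [1, 0, 2], [1, 0, 3], [1, 3, 4]],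
  [[], [1], [2], [3], [1, 0], [1, 2], [1, 3], [1, 4], [1, 0, 2], [1, 0, 3], [1, 0, 4]],
  [[], [1], [2], [4], [1, 0], [1, 4], [2, 3], [2, 4], [4, 3], [1, 0, 4], [1, 4, 3]],
  [[2]],
  [[], [1], [2], [3], [4], [1, 0], [1, 3], [1, 4], [2, 4], [1, 0, 3], [1, 0, 4]],
  [[4, 3, 2]],
  [[3, 2]],
  [[], [1], [3], [1, 0], [1, 3], [3, 2], [1, 0, 3], [1, 3, 2], [1, 3, 4], [1, 0, 3, 2], [1, 0, 3, 4]],
  [[], [1], [2], [4], [1, 0], [1, 4], [2, 3], [2, 4], [4, 3], [1, 0, 4], [1, 4, 3]],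
  [[], [1], [2], [3], [4], [1, 0], [1, 3], [1, 4], [2, 4], [1, 0, 3], [1, 0, 4]],
  [[2]],
  [[], [1], [2], [1, 0], [1, 2], [1, 4], [2, 3], [1, 0, 2], [1, 0, 4], [1, 2, 1], [1, 2, 3]],
  [[], [1], [2], [3], [1, 0], [1, 2], [1, 3], [1, 4], [1, 0, 2], [1, 0, 3], [1, 0, 4]],
  [[], [1], [3], [1, 0], [1, 2], [1, 3], [3, 2], [3, 4], [1, 0, 2], [1, 0, 3], [1, 3, 4]],
  [[], [0], [4], [0, 1], [0, 4], [4, 3], [0, 1, 2], [0, 1, 4], [0, 4, 3], [4, 3, 2], [0, 1, 2, 3]],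
  [[], [0], [3], [4], [0, 1], [0, 3], [0, 4], [3, 2], [0, 1, 2], [0, 1, 3], [0, 1, 4]],
  [[0, 1, 2]],
  [[], [0], [2], [4], [0, 1], [0, 2], [0, 4], [2, 1], [2, 4], [4, 3], [0, 1, 2]],
  [[], [0], [2], [3], [4], [0, 1], [0, 2], [0, 3], [0, 4], [2, 1], [2, 4]],
  [[], [0], [2], [3], [0, 1], [0, 2], [0, 3], [2, 1], [3, 4], [0, 1, 3], [0, 3, 4]],
  [[2, 1, 3, 2]],
  [[0, 1, 3, 2]],
  [[], [0], [3], [0, 1], [0, 3], [3, 2], [3, 4], [0, 1, 3], [0, 3, 2], [0, 3, 4], [3, 2, 1]],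
  [[], [1], [1, 0], [1, 2], [1, 0, 2], [1, 2, 3], [1, 0, 2, 1], [1, 0, 2, 3], [1, 2, 3, 4], [1, 0, 2, 1, 3], [1, 0, 2, 3, 4]],
  [[], [0], [1], [3], [0, 1], [1, 0], [1, 2], [3, 2], [0, 1, 2], [1, 0, 2], [1, 2, 3]],
  [[], [0], [1], [0, 1], [0, 3], [1, 2], [0, 1, 0], [0, 1, 2], [0, 3, 2], [0, 1, 0, 2], [0, 1, 2, 3]],
  [[], [0], [2], [0, 1], [0, 2], [2, 1], [2, 3], [0, 2, 3], [2, 1, 3], [2, 3, 4], [0, 2, 3, 4]],
  [[], [0], [1], [2], [0, 1], [0, 2], [0, 4], [1, 2], [2, 1], [2, 3], [0, 1, 0]],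
  [[], [0], [1], [2], [3], [0, 1], [0, 2], [0, 4], [1, 2], [2, 1], [0, 2, 4]],
  [[], [0], [1], [2], [0, 2], [2, 3], [0, 2, 1], [0, 2, 3], [2, 3, 4], [0, 2, 1, 3], [0, 2, 3, 4]],
  [[], [0], [1], [2], [4], [0, 1], [0, 2], [0, 3], [2, 4], [0, 1, 2], [0, 2, 1]],
  [[], [0], [1], [2], [4], [0, 1], [0, 2], [1, 0], [2, 3], [2, 4], [0, 1, 2]],
  [[], [0], [1], [4], [0, 4], [1, 2], [1, 4], [4, 3], [0, 4, 3], [1, 2, 3], [1, 2, 4]],
  [[1, 2]],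
  [[], [0], [1], [3], [4], [0, 3], [0, 4], [1, 2], [1, 3], [1, 4], [3, 2]],
  [[1, 4, 3, 2]],
  [[], [0], [1], [3], [0, 3], [1, 3], [3, 2], [3, 4], [0, 3, 2], [0, 3, 4], [1, 3, 2]],
  [[1, 3, 2]],
  [[], [0], [1], [2], [4], [0, 2], [0, 4], [1, 2], [2, 1], [2, 3], [4, 3]],
  [[], [0], [1], [2], [3], [0, 2], [0, 3], [1, 3], [3, 4], [0, 2, 1], [0, 3, 4]],
  [[], [0], [1], [2], [3], [4], [0, 2], [0, 3], [0, 4], [1, 2], [1, 3]],
  [[], [0], [4], [0, 1], [0, 4], [4, 3], [0, 1, 2], [0, 1, 4], [0, 4, 3], [4, 3, 2], [0, 1, 2, 3]],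
  [[0, 1, 2]],
  [[], [0], [3], [4], [0, 1], [0, 3], [0, 4], [3, 2], [0, 1, 2], [0, 1, 3], [0, 1, 4]],
  [[2, 1, 3, 2]],
  [[], [0], [3], [0, 1], [0, 3], [3, 2], [3, 4], [0, 1, 3], [0, 3, 2], [0, 3, 4], [3, 2, 1]],
  [[0, 1, 3, 2]],
  [[], [0], [2], [4], [0, 1], [0, 2], [0, 4], [2, 1], [2, 4], [4, 3], [0, 1, 2]],
  [[], [0], [2], [3], [0, 1], [0, 2], [0, 3], [2, 1], [3, 4], [0, 1, 3], [0, 3, 4]],
  [[], [0], [2], [3], [4], [0, 1], [0, 2], [0, 3], [0, 4], [2, 1], [2, 4]],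
  [[], [0], [1], [4], [0, 4], [1, 2], [1, 4], [4, 3], [0, 4, 3], [1, 2, 3], [1, 2, 4]],
  [[], [0], [1], [3], [4], [0, 3], [0, 4], [1, 2], [1, 3], [1, 4], [3, 2]],
  [[1, 2]],
  [[], [0], [1], [2], [4], [0, 2], [0, 4], [1, 2], [2, 1], [2, 3], [4, 3]],
  [[], [0], [1], [2], [3], [4], [0, 2], [0, 3], [0, 4], [1, 2], [1, 3]],
  [[], [0], [1], [2], [3], [0, 2], [0, 3], [1, 3], [3, 4], [0, 2, 1], [0, 3, 4]],
  [[1, 4, 3, 2]],
  [[1, 3, 2]],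
  [[], [0], [1], [3], [0, 3], [1, 3], [3, 2], [3, 4], [0, 3, 2], [0, 3, 4], [1, 3, 2]],
  [[], [1], [1, 0], [1, 2], [1, 0, 2], [1, 2, 3], [1, 0, 2, 1], [1, 0, 2, 3], [1, 2, 3, 4], [1, 0, 2, 1, 3], [1, 0, 2, 3, 4]],
  [[], [0], [1], [0, 1], [0, 3], [1, 2], [0, 1, 0], [0, 1, 2], [0, 3, 2], [0, 1, 0, 2], [0, 1, 2, 3]],
  [[], [0], [1], [3], [0, 1], [1, 0], [1, 2], [3, 2], [0, 1, 2], [1, 0, 2], [1, 2, 3]],
  [[], [0], [1], [2], [0, 2], [2, 3], [0, 2, 1], [0, 2, 3], [2, 3, 4], [0, 2, 1, 3], [0, 2, 3, 4]],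
  [[], [0], [1], [2], [4], [0, 1], [0, 2], [1, 0], [2, 3], [2, 4], [0, 1, 2]],
  [[], [0], [1], [2], [4], [0, 1], [0, 2], [0, 3], [2, 4], [0, 1, 2], [0, 2, 1]],
  [[], [0], [2], [0, 1], [0, 2], [2, 1], [2, 3], [0, 2, 3], [2, 1, 3], [2, 3, 4], [0, 2, 3, 4]],
  [[], [0], [1], [2], [3], [0, 1], [0, 2], [0, 4], [1, 2], [2, 1], [0, 2, 4]],
  [[], [0], [1], [2], [0, 1], [0, 2], [0, 4], [1, 2], [2, 1], [2, 3], [0, 1, 0]]]

/-- Fixers of the three seeds -/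
def seedTab : List (List (List Nat × List Nat × Nat)) := [
  [([0], [4, 6, 5], 0xc02088030c3082020c300e0800b0c00000000000000000000000000000000000000000000000000000000000000000000000), ([1], [6, 5], 0x40208c030c1082030c30060800f0c00008000040000200001000008000040000000000000000000000000000000000000000)],
  [([0], [4, 6, 5], 0xc02088030c3082020c300e0800b0c00000000000000000000000000000000000000000000000000000000000000000000000), ([1], [6, 5], 0x40208c030c1082030c30060800f0c00008000040000200001000008000040000000000000000000000000000000000000000)],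
  [([0], [4, 6, 5], 0x1080020c00000000000000000000000000000000000000000000c000080000000000000000000000000000000000000000), ([9], [9], 0x0), ([3, 4], [3, 4], 0x10000300000c00008000010000300000c0000800000000000000040000c0000300002000000000000000000000)]]

/-- Candidates -/
def candTab : List (List Nat) := [
  [0, 1, 2, 3],
  [0, 1, 2, 3],
  [0, 1, 2, 3, 262668, 262669, 262670, 262671, 524552, 524553, 524554, 524555, 787204, 787205, 787206, 787207]]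

/-- Intertwining pairs spanning the space -/
def srcTab : List (List Nat × List Nat) := [
  ([], []),
  ([1], [6, 5]),
  ([6], [6]),
  ([8], [8]),
  ([0, 6], [4, 5, 6, 5]),
  ([1, 8], [6, 5, 8]),
  ([5, 6], [1]),
  ([6, 8], [6, 8]),
  ([9, 8], [9, 8]),
  ([0, 5, 6], [6, 5, 0]),
  ([0, 6, 8], [4, 5, 6, 5, 8]),
  ([1, 9, 8], [6, 5, 9, 8]),
  ([5, 6, 8], [1, 8]),
  ([6, 9, 8], [6, 9, 8]),
  ([0, 5, 6, 8], [6, 5, 0, 8]),
  ([0, 6, 9, 8], [4, 5, 6, 5, 9, 8]),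
  ([5, 6, 9, 8], [1, 9, 8]),
  ([0, 5, 6, 9, 8], [6, 5, 0, 9, 8])]

/-- The units in terms of the spanning vectors -/
def selTab : List Nat := [
  0x1,
  0x2,
  0x4,
  0x8,
  0x20,
  0x80,
  0x400,
  0x2000,
  0x10,
  0x40,
  0x200,
  0x1000,
  0x8000,
  0x20000,
  0x40000,
  0x80000,
  0x4000,
  0x10000,
  0x100,
  0x800]

end Cfsg.Agent.U62Mod
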