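import Cfsg.Agent.U62Mod.Gens
import Cfsg.Agent.U62Mod.Data
import Cfsg.Agent.U62.Mat

/-!
# Equality of words in the generators, decided on packed matrices
-/

set_option autoImplicit false
set_option maxRecDepth 100000
set_option synthInstance.maxSize 4096
set_option synthInstance.maxHeartbeats 200000

namespace Cfsg.Agent.U62Mod

open Cfsg.Agent.ThreeTrans.SU32 Cfsg.Agent.Compute Cfsg.Agent.StemCert
open scoped Matrix

instance : CharP K 2 := CharTwo.of_one_ne_zero_of_two_eq_zero (by decide +kernel) (by decide +kernel)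

theorem root_w : (F4.w : K) ^ 2 + F4.w + 1 = 0 := by decide +kernel

/-- The matrix of a code. -/
noncomputable abbrev matC (A : ℕ) : Matrix (Fin 6) (Fin 6) K := U62.toMat (F4.w : K) A

/-- An entry value, in a form which evaluates. -/
def valK : ℕ → K
  | 1 => F4.e
  | 2 => F4.w
  | 3 => F4.w'
  | _ => F4.o

theorem val_eq (a : ℕ) : U62.val (F4.w : K) a = valK a := by
  rcases a with _ | _ | _ | _ | a <;> first | rfl | simp [U62.val, valK] <;> rfl

theorem genC_entry : ∀ k : Fin 11,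
    (Matrix.of fun i j : Fin 6 => valK (U62.getE (genC.getD k.1 0) i.1 j.1)) = genM k := by
  decide +kernel

theorem matC_gen (k : Fin 11) : matC (genC.getD k.1 0) = genM k := by
  rw [← genC_entry k]
  exact Matrix.ext fun i j => val_eq _

/-- A generator, indexed by a number. -/
def gSN (s : ℕ) : Su := if h : s < 11 then gS ⟨s, h⟩ else 1

/-- The element of a word in `SU(6, 2)`. -/
def wdS (wd : List ℕ) : Su := (wd.map gSN).prod

/-- The element of a word in `PSU(6, 2)`. -/
def wdP (wd : List ℕ) : Pu := AutPSU.mkU (wdS wd)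

/-- All letters are generators. -/
noncomputable def okW (wd : List ℕ) : Bool := allB (fun s => Nat.blt s 11) wd

theorem matC_word : ∀ {wd : List ℕ}, okW wd = true → matC (U62.evalC genC wd) = AutPSU.mat (wdS wd)
  | [], _ => U62.toMat_idC
  | s :: wd, h => by
    simp only [okW, allB, Bool.and_eq_true, Nat.blt_eq] at h
    show matC (U62.mulC (genC.getD s 0) (U62.evalC genC wd)) = _
    rw [matC, U62.toMat_mulC root_w]
    show matC _ * matC _ = _
    rw [matC_word (show okW wd = true from h.2), show matC (genC.getD s 0) = genM ⟨s, h.1⟩ from matC_gen ⟨s, h.1⟩]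
    show genM ⟨s, h.1⟩ * _ = AutPSU.mat (gSN s * wdS wd)
    rw [gSN, dif_pos h.1]
    rfl

/-- Two words agree modulo scalars. -/
noncomputable def eqW (a b : List ℕ) : Bool :=
  okW a && okW b &&
    (Nat.beq (U62.mulC (U62.scalC 1) (U62.evalC genC a)) (U62.mulC (U62.scalC 1) (U62.evalC genC b)) ||
     Nat.beq (U62.mulC (U62.scalC 2) (U62.evalC genC a)) (U62.mulC (U62.scalC 1) (U62.evalC genC b)) ||
     Nat.beq (U62.mulC (U62.scalC 3) (U62.evalC genC a)) (U62.mulC (U62.scalC 1) (U62.evalC genC b)))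

theorem eq_of_eqW {a b : List ℕ} (h : eqW a b = true) : wdP a = wdP b := by
  simp only [eqW, Bool.and_eq_true, Bool.or_eq_true, Nat.beq_eq] at h
  obtain ⟨⟨ha, hb⟩, h⟩ := h
  obtain ⟨s, hs, hs0, he⟩ : ∃ s, s < 4 ∧ s ≠ 0 ∧
      U62.mulC (U62.scalC s) (U62.evalC genC a) = U62.mulC (U62.scalC 1) (U62.evalC genC b) := by
    rcases h with (h | h) | h
    exacts [⟨1, by norm_num, by norm_num, h⟩, ⟨2, by norm_num, by norm_num, h⟩, ⟨3, by norm_num, by norm_num, h⟩]
  have e := congrArg matC he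
  simp only [U62.toMat_mulC root_w, U62.toMat_scalC (w := (F4.w : K)) hs,
    U62.toMat_scalC (w := (F4.w : K)) (show 1 < 4 by norm_num), matC_word ha, matC_word hb] at e
  have h1 : U62.val (F4.w : K) 1 = 1 := by simp [U62.val]
  rw [h1, map_one, one_mul] at e
  symm
  refine QuotientGroup.eq.2 ?_
  refine AutPSU.mem_center_of_scalar (a := U62.val (F4.w : K) s ^ 2) fun v => ?_
  have h4 : ∀ x : K, x ≠ 0 → x ^ 3 = 1 := by decide +kernel
  have hv : U62.val (F4.w : K) s ≠ 0 := (U62.val_ne_zero_iff root_w hs).2 hs0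
  have e2 : AutPSU.mat (wdS b) *ᵥ v = U62.val (F4.w : K) s • (AutPSU.mat (wdS a) *ᵥ v) := by
    rw [← e, ← Matrix.mulVec_mulVec, Matrix.scalar_apply, ← Matrix.smul_one_eq_diagonal,
      Matrix.smul_mulVec, Matrix.one_mulVec]
  rw [AutPSU.mat_mul_mulVec]
  calc AutPSU.mat (wdS b)⁻¹ *ᵥ (AutPSU.mat (wdS a) *ᵥ v)
      = AutPSU.mat (wdS b)⁻¹ *ᵥ ((U62.val (F4.w : K) s ^ 2) • (AutPSU.mat (wdS b) *ᵥ v)) := by
        rw [e2, smul_smul, ← pow_succ, h4 _ hv, one_smul]
    _ = (U62.val (F4.w : K) s ^ 2) • v := by rw [Matrix.mulVec_smul, AutPSU.mat_inv_mulVec]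

end Cfsg.Agent.U62Mod
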