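import Cfsg.Agent.U62Mod.Mono

/-!
# The last generator is determined

Its image of three seeds lies in small fixed spaces; two relations leave a single candidate.
-/

set_option autoImplicit false

namespace Cfsg.Agent.U62Mod

open Cfsg.Agent.Compute Cfsg.Agent.StemCert

/-- All eleven generators act as in the model. -/
structure FullFrame {M : Type*} [CommGroup M] (ρ : Pu →* MulAut M) (β : ℕ → M) : Prop where
  hom : ∀ a b, a < 2 ^ 20 → b < 2 ^ 20 → β (a ^^^ b) = β a * β b
  inj : ∀ a b, a < 2 ^ 20 → b < 2 ^ 20 → β a = β b → a = b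
  surj : ∀ x, ∃ v, v < 2 ^ 20 ∧ β v = x
  gen : ∀ k, k < 11 → ∀ v, v < 2 ^ 20 → ρ (wdP [k]) (β v) = β (app (modOf k) v)

theorem allB_iff {α : Type} {f : α → Bool} : ∀ {l : List α}, allB f l = true ↔ ∀ x ∈ l, f x = true
  | [] => by simp [allB]
  | a :: l => by
    show (f a && allB f l) = true ↔ _
    rw [Bool.and_eq_true, allB_iff (l := l)]
    simp

theorem memN_iff {x : ℕ} : ∀ {l : List ℕ}, memN x l = true ↔ x ∈ l
  | [] => by simp [memN]
  | a :: l => by
    show (Nat.beq x a || memN x l) = true ↔ _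
    rw [Bool.or_eq_true, Nat.beq_eq, memN_iff (l := l)]
    simp

theorem selX_map {f : ℕ → ℕ} (hf : ∀ a b, a < 2 ^ 20 → b < 2 ^ 20 → f (a ^^^ b) = f a ^^^ f b) :
    ∀ (l : List ℕ), (∀ x ∈ l, x < 2 ^ 20) → ∀ s, selX l s < 2 ^ 20 ∧ f (selX l s) = selX (l.map f) s
  | [], _, s => by
    have := hf 0 0 (Nat.two_pow_pos 20) (Nat.two_pow_pos 20)
    exact ⟨Nat.two_pow_pos 20, by simpa [selX] using this⟩
  | x :: l, hl, s => by
    obtain ⟨h1, h2⟩ := selX_map hf l (fun y hy => hl y (List.mem_cons_of_mem _ hy)) (Nat.shiftRight s 1)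
    have hx := hl x (List.mem_cons_self ..)
    show Nat.xor (cond (bitB s 0) x 0) _ < 2 ^ 20 ∧ f (Nat.xor (cond (bitB s 0) x 0) _) =
      Nat.xor (cond (bitB s 0) (f x) 0) _
    have h0 : f 0 = 0 := by simpa using hf 0 0 (Nat.two_pow_pos 20) (Nat.two_pow_pos 20)
    cases bitB s 0 with
    | false => exact ⟨Nat.xor_lt_two_pow (Nat.two_pow_pos 20) h1,
        (hf _ _ (Nat.two_pow_pos 20) h1).trans (by rw [h0, h2]; rfl)⟩
    | true => exact ⟨Nat.xor_lt_two_pow hx h1, (hf _ _ hx h1).trans (by rw [h2]; rfl)⟩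

theorem proj_fix : ∀ (l : List (List ℕ × List ℕ × ℕ)) {m : ℕ}, m < 2 ^ 20 →
    (∀ q ∈ l, app (modW q.2.1) m = m) → app (projM l) m = m
  | [], m, hm, _ => app_idM hm
  | q :: l, m, hm, h => by
    show app (addM (projM l) (mulM q.2.2 (addM (modW q.2.1) idM))) m = m
    rw [app_addM _ _ hm, proj_fix l hm (fun x hx => h x (List.mem_cons_of_mem _ hx)), app_mulM _ _ hm,
      app_addM _ _ hm, h q (List.mem_cons_self ..), app_idM hm, Nat.xor_self, app_zero, Nat.xor_zero]

theorem app_mem {A : ℕ} {l : List ℕ} (h0 : memN 0 l = true)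
    (hk : ∀ k, k < 20 → memN (getField 20 A k) l = true)
    (hx : ∀ x ∈ l, ∀ y ∈ l, memN (Nat.xor x y) l = true) (v : ℕ) : app A v ∈ l := by
  suffices H : ∀ n, n ≤ 20 → (Nat.rec (motive := fun _ => ℕ) 0
      (fun j r => cond (bitB v j) (Nat.xor r (getField 20 A j)) r) n) ∈ l from H 20 le_rfl
  intro n
  induction n with
  | zero => exact fun _ => memN_iff.1 h0
  | succ n ih =>
    intro hn
    show cond (bitB v n) _ _ ∈ l
    cases bitB v n with
    | false => exact ih (by omega)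
    | true => exact memN_iff.1 (hx _ (ih (by omega)) _ (memN_iff.1 (hk n (by omega))))

variable {M : Type*} [CommGroup M] [Finite M] {ρ : Pu →* MulAut M}

omit [Finite M] in
theorem word_act {β : ℕ → M} {n : ℕ} (hgen : ∀ k, k < n → ∀ v, v < 2 ^ 20 → ρ (wdP [k]) (β v) = β (app (modOf k) v)) :
    ∀ w : List ℕ, (∀ s ∈ w, s < n) → ∀ v, v < 2 ^ 20 → ρ (wdP w) (β v) = β (app (modW w) v)
  | [], _, v, hv => by
    rw [wdP_nil, map_one, show modW [] = idM from rfl, app_idM hv]; rfl
  | s :: w, h, v, hv => by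
    rw [wdP_cons, map_mul, MulAut.mul_apply, word_act hgen w (fun x hx => h x (List.mem_cons_of_mem _ hx)) v hv,
      hgen s (h s (List.mem_cons_self ..)) _ (app_lt _ _), show modW (s :: w) = mulM (modOf s) (modW w) from rfl,
      app_mulM _ _ hv]

/-- The model. -/
theorem exists_fullFrame (h : Module20 ρ) : ∃ β, FullFrame ρ β := by
  obtain ⟨β, hb⟩ := exists_monFrame h
  refine ⟨β, hb.hom, hb.inj, hb.surj, ?_⟩
  set g := ρ (wdP [10]) with hg
  choose inv hinv using hb.surj
  let f : ℕ → ℕ := fun v => inv (g (β v))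
  have hfl : ∀ v, f v < 2 ^ 20 := fun v => (hinv _).1
  have hfe : ∀ v, β (f v) = g (β v) := fun v => (hinv _).2
  have hflin : ∀ a b, a < 2 ^ 20 → b < 2 ^ 20 → f (a ^^^ b) = f a ^^^ f b := fun a b ha hb' =>
    hb.inj _ _ (hfl _) (Nat.xor_lt_two_pow (hfl _) (hfl _)) (by
      rw [hfe, hb.hom a b ha hb', hb.hom _ _ (hfl _) (hfl _), hfe, hfe, map_mul])
  have hinter : ∀ n n' : List ℕ, (∀ s ∈ n, s < 10) → (∀ s ∈ n', s < 10) →
      eqW (10 :: n) (n' ++ [10]) = true → ∀ v, v < 2 ^ 20 → f (app (modW n) v) = app (modW n') (f v) := by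
    intro n n' hn hn' he v hv
    refine hb.inj _ _ (hfl _) (app_lt _ _) ?_
    rw [hfe, ← word_act hb.gen n hn v hv, ← word_act hb.gen n' hn' _ (hfl v), hfe, hg, ← MulAut.mul_apply,
      ← map_mul, ← MulAut.mul_apply, ← map_mul, ← wdP_append, ← wdP_append, List.singleton_append,
      eq_of_eqW he]
  have hseed : ∀ s, s < 3 → f (seed s) ∈ candTab.getD s [] := by
    intro s hs
    have h1 := seed_rel
    have h2 := proj_cand
    simp only [allBelow_eq_true, Bool.and_eq_true, allB_iff, Nat.blt_eq, Nat.beq_eq] at h1 h2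
    obtain ⟨⟨c0, c1⟩, c2⟩ := h2 s hs
    have hlt : seed s < 2 ^ 20 := by interval_cases s <;> decide
    have hp := proj_fix (seedTab.getD s []) (hfl (seed s)) fun q hq => by
      obtain ⟨⟨⟨q1, q2⟩, q3⟩, q4⟩ := h1 s hs q hq
      rw [← hinter q.1 q.2.1 q1 q2 q3 _ hlt, q4]
    rw [← hp]
    exact app_mem c0 c1 c2 _
  have hspan : ∀ i, i < 20 → f (2 ^ i) = getField 20 (candM (f 1) (f 2) (f 4)) i := by
    intro i hi
    rw [candM, getField_pack 20 20 _ (fun j _ => ?_) hi]
    · have hsu := span_units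
      simp only [allBelow_eq_true, Nat.beq_eq] at hsu
      have hlt : ∀ x ∈ spanV, x < 2 ^ 20 := fun x hx => by
        rcases List.mem_append.1 hx with hx | hx
        · fin_cases hx <;> norm_num
        · obtain ⟨q, -, rfl⟩ := List.mem_map.1 hx; exact app_lt _ _
      have h2 := (selX_map hflin spanV hlt (selTab.getD i 0)).2
      rw [hsu i hi, show Nat.shiftLeft 1 i = 2 ^ i from Nat.one_shiftLeft i] at h2
      rw [h2]
      congr 1
      rw [spanV, spanI, List.map_append, List.map_map]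
      congr 1
      refine List.map_congr_left fun q hq => ?_
      have h1 := src_rel
      simp only [Bool.and_eq_true, allB_iff, Nat.blt_eq] at h1
      obtain ⟨⟨q1, q2⟩, q3⟩ := h1 q hq
      exact hinter q.1 q.2 q1 q2 q3 4 (by norm_num)
    · refine (selX_map (f := id) (fun _ _ _ _ => rfl) (spanI (f 1) (f 2) (f 4)) (fun x hx => ?_) _).1
      rcases List.mem_append.1 hx with hx | hx
      · fin_cases hx <;> exact hfl _
      · obtain ⟨q, -, rfl⟩ := List.mem_map.1 hx; exact app_lt _ _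
  have hcand : ∀ v, v < 2 ^ 20 → f v = app (candM (f 1) (f 2) (f 4)) v := fun v hv =>
    app_ext _ hflin (fun k hk => (hspan k hk).trans (app_two_pow _ hk).symm) hv
  have hu := cand_unique
  simp only [allB_iff] at hu
  have := hu (f 1) (hseed 0 (by norm_num)) (f 2) (hseed 1 (by norm_num)) (f 4) (hseed 2 (by norm_num))
  rw [show ∀ (n : ℕ) (k : ℕ → Bool), forceN n k = k n from fun n k => by cases n <;> rfl] at this
  set C := candM (f 1) (f 2) (f 4) with hC
  have hact : ∀ v, v < 2 ^ 20 → g (β v) = β (app C v) := fun v hv => by rw [← hcand v hv, hfe]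
  have e1 : eqM (mulM C C) (modOf 6) = true := eqM_iff.2 fun v hv =>
    hb.inj _ _ (app_lt _ _) (app_lt _ _) (by
      rw [app_mulM _ _ hv, ← hact _ (app_lt _ _), ← hact v hv, ← hb.gen 6 (by norm_num) v hv,
        ← eq_of_eqW corner_rel.1, hg, ← MulAut.mul_apply, ← map_mul, ← wdP_cons])
  set D := mulM C (modOf 2) with hD
  have hD2 : ∀ v, v < 2 ^ 20 → ρ (wdP [10, 2]) (β v) = β (app D v) := fun v hv => by
    rw [wdP_cons, map_mul, MulAut.mul_apply, hb.gen 2 (by norm_num) v hv, ← hg, hact _ (app_lt _ _),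
      hD, app_mulM _ _ hv]
  have e2 : eqM (pow9 D) idM = true := eqM_iff.2 fun v hv => hb.inj _ _ (app_lt _ _) (app_lt _ _) (by
    have hstep : ∀ (E : ℕ) (w : List ℕ), (∀ v, v < 2 ^ 20 → ρ (wdP w) (β v) = β (app E v)) →
        ∀ v, v < 2 ^ 20 → ρ (wdP ([10, 2] ++ w)) (β v) = β (app (mulM D E) v) := fun E w hE v hv => by
      rw [wdP_append, map_mul, MulAut.mul_apply, hE v hv, hD2 _ (app_lt _ _), app_mulM _ _ hv]
    have h9 := hstep _ _ (hstep _ _ (hstep _ _ (hstep _ _ (hstep _ _ (hstep _ _ (hstep _ _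
      (hstep _ _ hD2))))))) v hv
    rw [show pow9 D = mulM D (mulM D (mulM D (mulM D (mulM D (mulM D (mulM D (mulM D D))))))) from rfl,
      ← h9, app_idM hv]
    simp only [List.cons_append, List.nil_append]
    rw [eq_of_eqW corner_rel.2, wdP_nil, map_one]
    rfl)
  rw [e1, cond_true, e2, Bool.not_true, Bool.false_or] at this
  intro k hk v hv
  rcases Nat.lt_succ_iff_lt_or_eq.1 hk with hk | rfl
  · exact hb.gen k hk v hv
  · rw [← hg, hact v hv, eqM_iff.1 this v hv]

end Cfsg.Agent.U62Mod
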