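import Cfsg.Prelude.Def_Classical
import Cfsg.Agent.ThreeTrans.SU32
import Cfsg.Agent.AutPSU.Basic

/-!
# Generators of `SU(6, 2)` and the two outer symmetries

Five diagonal matrices, five adjacent transpositions and one matrix that is not monomial; a diagonal
unitary matrix of determinant `w` and the field automorphism.
-/

set_option autoImplicit false
set_option maxRecDepth 100000

namespace Cfsg.Agent.U62Mod

open Cfsg.Agent.Classical Cfsg.Agent.Classical.Herm Cfsg.Agent.ThreeTrans.SU32
open scoped Matrix

/-- The field with four elements. -/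
abbrev K : Type := F4

/-- The special unitary group. -/
abbrev Su : Type := ↥(Cfsg.SU 6 K 2)

/-- The simple group. -/
abbrev Pu : Type := Cfsg.PSU 6 K 2

/-- The power of `w` with the given exponent. -/
def wPow : ℕ → K
  | 1 => F4.w
  | 2 => F4.w'
  | _ => F4.e

/-- Exponents of the five diagonal generators. -/
def diagTab : List (List ℕ) :=
  [[1, 2, 0, 0, 0, 0], [0, 1, 2, 0, 0, 0], [0, 0, 1, 2, 0, 0], [0, 0, 0, 1, 2, 0], [1, 1, 1, 0, 0, 0]]

/-- The corner of the last generator. -/
def corner (i j : Fin 6) : K :=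
  if i.1 < 3 ∧ j.1 < 3 then wPow ((i.1 * j.1) % 3) else if i = j then F4.e else F4.o

/-- The permutation matrix exchanging `a` and `a + 1`. -/
def swapM (a : ℕ) (i j : Fin 6) : K :=
  if i.1 = (if j.1 = a then a + 1 else if j.1 = a + 1 then a else j.1) then F4.e else F4.o

/-- The matrices of the eleven generators. -/
def genM (k : Fin 11) : Matrix (Fin 6) (Fin 6) K :=
  Matrix.of fun i j =>
    if k.1 < 5 then (if i = j then wPow ((diagTab.getD k.1 []).getD i.1 0) else F4.o)
    else if k.1 < 10 then swapM (k.1 - 5) i j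
    else corner i j

theorem frob_sq : ∀ x : K, F4.frob x = x ^ 2 := by decide +kernel

theorem genM_det : ∀ k : Fin 11, (genM k).det = 1 := by decide +kernel

theorem genM_form : ∀ k : Fin 11, ∀ i j : Fin 6,
    ∑ l, F4.frob (genM k l i) * genM k l j = if i = j then 1 else 0 := by decide +kernel

theorem genM_mem (k : Fin 11) :
    (⟨genM k, genM_det k⟩ : Matrix.SpecialLinearGroup (Fin 6) K) ∈ Cfsg.SU 6 K 2 := by
  refine (mem_SU_iff frob_sq _).2 ((preserves_iff_cols (genM k)).2 fun i j => ?_)
  have h := genM_form k i j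
  simp only [hermB_apply, Matrix.mulVec_single_one]
  exact h

/-- The generators in `SU(6, 2)`. -/
def gS (k : Fin 11) : Su := ⟨_, genM_mem k⟩

/-- The generators in `PSU(6, 2)`. -/
def gP (k : Fin 11) : Pu := AutPSU.mkU (gS k)

/-- The three representatives of the classes of involutions. -/
def invol : Fin 3 → Pu := ![gP 5, gP 5 * gP 7, gP 5 * gP 7 * gP 9]

/-- The diagonal matrix of determinant `w`. -/
def dM : Matrix (Fin 6) (Fin 6) K :=
  Matrix.of fun i j => if i = j then (if i = 0 then F4.w else F4.e) else F4.o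

theorem dM_mul : dM * dM * dM = 1 := by decide +kernel

/-- It as an invertible matrix. -/
def dG : GL (Fin 6) K where
  val := dM
  inv := dM * dM
  val_inv := by rw [← mul_assoc, dM_mul]
  inv_val := dM_mul

theorem dG_mem : dG ∈ Cfsg.GU 6 K 2 := by
  intro u v
  have h : ∀ i : Fin 6, ∀ a b : K, (dM i i * a) * (dM i i * b) ^ 2 = a * b ^ 2 := by decide +kernel
  have hv : ∀ (x : Fin 6 → K) (i : Fin 6), ((dG : Matrix (Fin 6) (Fin 6) K) *ᵥ x) i = dM i i * x i := by
    intro x i
    show (dM *ᵥ x) i = _
    rw [Matrix.mulVec, dotProduct, Finset.sum_eq_single i]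
    · intro j _ hj
      simp [dM, Ne.symm hj, show (F4.o : K) = 0 from rfl]
    · simp
  simp only [Cfsg.hermForm]
  exact Finset.sum_congr rfl fun i _ => by
    show (dM *ᵥ u) i * (dM *ᵥ v) i ^ 2 = _
    rw [show (dM *ᵥ u) i = dM i i * u i from hv u i, show (dM *ᵥ v) i = dM i i * v i from hv v i]
    exact h i _ _

/-- The diagonal symmetry. -/
def δ : MulAut Pu := AutPSU.conjA ⟨dG, dG_mem⟩

/-- The field automorphism as an equivalence. -/
def frobE : K ≃+* K :=
  { F4.frob with
    invFun := F4.frob
    left_inv := fun x => by revert x; decide +kernel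
    right_inv := fun x => by revert x; decide +kernel }

/-- The field symmetry. -/
noncomputable def φF : MulAut Pu := AutPSU.fieldA frobE

end Cfsg.Agent.U62Mod
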