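import Mathlib
import Cfsg.Agent.Coprime.Generation

/-!
# The group part: a normaliser of a module for U(6,2) is not strongly 3-embedded

The local facts are collected in `Local`. Centralisers of subgroups of `A` are shown to lie in `H`
by descending induction, down to the trivial subgroup.
-/

set_option autoImplicit false

open Subgroup

namespace Cfsg.Agent.U62Mod

variable {X : Type*} [Group X] [Finite X]

/-- An involution of `H` outside `A` with no element of order three in its centraliser in `H`. -/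
def Bad (A H : Subgroup X) (t : X) : Prop :=
  t ∈ H ∧ t ∉ A ∧ t * t = 1 ∧ ¬ 3 ∣ Nat.card ↥(H ⊓ centralizer ({t} : Set X))

/-- The facts about the module that are needed. -/
structure Local (A H : Subgroup X) (O : Set X) : Prop where
  hH : H = normalizer (A : Set X)
  cardA : Nat.card A = 2 ^ 20
  sq : ∀ a ∈ A, a * a = 1
  order : Nat.card H ∣ 2 ^ 36 * 3 ^ 6 * 5 * 7 * 11
  three : ∀ a ∈ A, 3 ∣ Nat.card ↥(H ⊓ centralizer ({a} : Set X))
  hyper : ∀ B ≤ A, Nat.card B = 2 ^ 19 → ∃ E : Subgroup X, E ≤ H ∧ E ≤ normalizer (B : Set X) ∧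
    Nat.card E = 9 ∧ (∀ e ∈ E, e ^ 3 = 1) ∧ ∀ e ∈ E, ∀ f ∈ E, e * f = f * e
  move3 : ∀ y ∈ H, orderOf y = 3 → Nat.card ↥(A ⊓ centralizer ({y} : Set X)) < 2 ^ 18
  move5 : ∀ y ∈ H, orderOf y = 5 → Nat.card ↥(A ⊓ centralizer ({y} : Set X)) < 2 ^ 16
  move7 : ∀ y ∈ H, orderOf y = 7 → Nat.card ↥(A ⊓ centralizer ({y} : Set X)) < 2 ^ 14
  badDim : ∀ t, Bad A H t → Nat.card ↥(A ⊓ centralizer ({t} : Set X)) = 2 ^ 12
  badFam : ∀ t, Bad A H t → ∀ B ≤ A ⊓ centralizer ({t} : Set X), (∀ b ∈ B, Bad A H (t * b)) →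
    Nat.card B ≤ 2 ^ 10 ∧ ∃ e ∈ O, e ∈ A ⊓ centralizer ({t} : Set X) ∧ e ∉ B
  noPair : ∀ e ∈ O, ∀ s₁ s₂, Bad A H s₁ → Bad A H s₂ → Bad A H (s₁ * s₂) → s₁ * s₂ = s₂ * s₁ →
    s₁ * e = e * s₁ → s₂ * e = e * s₂ → False
  elem : ∀ V ≤ H, (∀ v ∈ V, v * v = 1) → (∀ v ∈ V, v ∈ A ∨ Bad A H v) →
    Nat.card V ≤ 2 ^ 9 * Nat.card ↥(V ⊓ A)
  subO : O ⊆ A
  span : ∀ B ≤ A, B ≠ A → ∃ e ∈ O, e ∉ B

variable {A H : Subgroup X} {O : Set X}

/-- The only possible sizes of a transitive quotient. -/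
theorem exponents : ∀ i, i < 19 → 2 ^ (20 - i) - 1 ∣ 2 ^ 36 * 3 ^ 6 * 5 * 7 * 11 →
    i = 18 ∨ i = 17 ∨ i = 16 ∨ i = 14 := by decide +kernel

theorem mem_cent_one {a x : X} : x ∈ centralizer ({a} : Set X) ↔ x * a = a * x :=
  mem_centralizer_singleton_iff

/-- Strong 3-embedding, in the form used. -/
def Strong (H : Subgroup X) : Prop :=
  ∀ g x : X, x ∈ H → orderOf x = 3 → g * x * g⁻¹ ∈ H → g ∈ H

theorem strong_of (h : ∀ g : X, g ∉ H → ¬ 3 ∣ Nat.card ↥(H ⊓ H.map (MulAut.conj g).toMonoidHom)) :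
    Strong H := by
  intro g x hx ho hgx
  by_contra hg
  refine h g hg ?_
  have hm : g * x * g⁻¹ ∈ H ⊓ H.map (MulAut.conj g).toMonoidHom :=
    ⟨hgx, x, hx, rfl⟩
  have ho' : orderOf (g * x * g⁻¹) = 3 := by
    rw [← ho]; exact orderOf_injective (MulAut.conj g).toMonoidHom (MulAut.conj g).injective x
  rw [← ho', ← Subgroup.orderOf_mk (g * x * g⁻¹) hm]
  exact orderOf_dvd_natCard _

theorem exists_three {M : Subgroup X} (h : 3 ∣ Nat.card M) : ∃ x ∈ M, orderOf x = 3 := by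
  have : Fact (Nat.Prime 3) := ⟨Nat.prime_three⟩
  obtain ⟨x, hx⟩ := exists_prime_orderOf_dvd_card' 3 h
  exact ⟨x, x.2, (Subgroup.orderOf_coe x).trans hx⟩

theorem Strong.le_of_isPGroup (hs : Strong H) {T : Subgroup X} (hT : IsPGroup 3 T) {x : X}
    (hxT : x ∈ T) (hxH : x ∈ H) (ho : orderOf x = 3) : T ≤ H := by
  have : Fact (Nat.Prime 3) := ⟨Nat.prime_three⟩
  have : Group.IsNilpotent T := hT.isNilpotent
  have key : H.subgroupOf T = ⊤ := by
    by_contra hne
    have hlt : H.subgroupOf T < normalizer (H.subgroupOf T : Set T) :=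
      Group.normalizerCondition_of_isNilpotent _ (lt_top_iff_ne_top.2 hne)
    obtain ⟨n, hn, hnot⟩ := SetLike.exists_of_lt hlt
    have h1 := (mem_normalizer_iff.1 hn ⟨x, hxT⟩).1 (mem_subgroupOf.2 hxH)
    exact hnot (mem_subgroupOf.2 (hs n.1 x hxH ho (mem_subgroupOf.1 h1)))
  exact subgroupOf_eq_top.1 key

namespace Local

variable (d : Local A H O) (hs : Strong H)

include d

theorem A_le : A ≤ H := d.hH ▸ le_normalizer

theorem conj_mem {h a : X} (hh : h ∈ H) (ha : a ∈ A) : h * a * h⁻¹ ∈ A :=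
  (mem_normalizer_iff.1 (d.hH ▸ hh) a).1 ha

theorem comm {a b : X} (ha : a ∈ A) (hb : b ∈ A) : a * b = b * a := by
  have inv : ∀ c ∈ A, c⁻¹ = c := fun c hc => inv_eq_of_mul_eq_one_left (d.sq c hc)
  calc a * b = (a * b)⁻¹ := (inv _ (mul_mem ha hb)).symm
    _ = b * a := by rw [_root_.mul_inv_rev, inv a ha, inv b hb]

include hs

theorem control {a g : X} (ha : a ∈ A) (ht : g * a * g⁻¹ ∈ H)
    (h3 : 3 ∣ Nat.card ↥(H ⊓ centralizer ({g * a * g⁻¹} : Set X))) : g * a * g⁻¹ ∈ A := by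
  have : Fact (Nat.Prime 3) := ⟨Nat.prime_three⟩
  set t := g * a * g⁻¹ with htdef
  obtain ⟨x, hx, hxo⟩ := exists_three h3
  obtain ⟨x0, hx0, hx0o⟩ := exists_three (d.three a ha)
  set L := centralizer ({a} : Set X) with hL
  have hx' : g⁻¹ * x * g ∈ L := by
    have := mem_cent_one.1 hx.2
    rw [hL, mem_cent_one]
    calc g⁻¹ * x * g * a = g⁻¹ * (x * t) * g := by rw [htdef]; group
      _ = a * (g⁻¹ * x * g) := by rw [this, htdef]; group
  have hp : ∀ z : L, orderOf z = 3 → IsPGroup 3 (zpowers z) := fun z hz =>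
    IsPGroup.of_card (n := 1) (by rw [Nat.card_zpowers, hz, pow_one])
  have hzo : orderOf (⟨g⁻¹ * x * g, hx'⟩ : L) = 3 := by
    rw [Subgroup.orderOf_mk, ← hxo]
    simpa using orderOf_injective (MulAut.conj g⁻¹).toMonoidHom (MulAut.conj g⁻¹).injective x
  have hz0o : orderOf (⟨x0, hx0.2⟩ : L) = 3 := by rw [Subgroup.orderOf_mk, hx0o]
  obtain ⟨P, hP⟩ := (hp _ hzo).exists_le_sylow
  obtain ⟨Q, hQ⟩ := (hp _ hz0o).exists_le_sylow
  obtain ⟨c, hc⟩ := MulAction.exists_smul_eq L P Q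
  have hQH : (Q : Subgroup L).map L.subtype ≤ H :=
    hs.le_of_isPGroup (Q.isPGroup'.map _) ⟨⟨x0, hx0.2⟩, hQ (mem_zpowers _), rfl⟩ hx0.1 hx0o
  have hcm : c * ⟨g⁻¹ * x * g, hx'⟩ * c⁻¹ ∈ (Q : Subgroup L) := by
    rw [← hc, Sylow.coe_subgroup_smul]
    exact Subgroup.smul_mem_pointwise_smul _ (MulAut.conj c) _ (hP (mem_zpowers _))
  have hin : (c : X) * (g⁻¹ * x * g) * (c : X)⁻¹ ∈ H := hQH ⟨_, hcm, rfl⟩
  have hg' : (c : X) * g⁻¹ ∈ H := hs ((c : X) * g⁻¹) x hx.1 hxo
    (by rw [show (c : X) * g⁻¹ * x * ((c : X) * g⁻¹)⁻¹ = c * (g⁻¹ * x * g) * (c : X)⁻¹ by group]; exact hin)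
  have hca : (c : X) * a * (c : X)⁻¹ = a := by rw [mem_cent_one.1 c.2, mul_inv_cancel_right]
  have := d.conj_mem (inv_mem hg') ha
  rwa [show ((c : X) * g⁻¹)⁻¹ * a * ((c : X) * g⁻¹)⁻¹⁻¹ = g * a * g⁻¹ by
    conv_lhs => rw [← hca]
    group] at this

theorem bad_of_conj {a g : X} (ha : a ∈ A) (ht : g * a * g⁻¹ ∈ H) (hn : g * a * g⁻¹ ∉ A) :
    Bad A H (g * a * g⁻¹) :=
  ⟨ht, hn, by rw [show g * a * g⁻¹ * (g * a * g⁻¹) = g * (a * a) * g⁻¹ by group, d.sq a ha]; group,
    fun h3 => hn (d.control hs ha ht h3)⟩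

/-- `A` is weakly closed in `H`. -/
theorem weak {v : X} (hv : ∀ a ∈ A, v * a * v⁻¹ ∈ H) : v ∈ H := by
  set V := A.map (MulAut.conj v).toMonoidHom with hV
  have hVc : Nat.card V = 2 ^ 20 :=
    (Nat.card_congr (A.equivMapOfInjective _ (MulAut.conj v).injective).toEquiv).symm.trans d.cardA
  by_cases hVA : V ≤ A
  · rw [d.hH, mem_normalizer_iff]
    have hEq : V = A := eq_of_le_of_card_ge hVA (by rw [hVc, d.cardA])
    intro a
    refine ⟨fun ha => hVA ⟨a, ha, rfl⟩, fun ha => ?_⟩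
    rw [← hEq] at ha
    obtain ⟨b, hb, hbe⟩ := ha
    rwa [← (MulAut.conj v).injective (show MulAut.conj v b = MulAut.conj v a from hbe)]
  · exfalso
    obtain ⟨t, htV, htA⟩ := SetLike.not_le_iff_exists.1 hVA
    have hbad : ∀ u ∈ V, u ∉ A → Bad A H u := by
      rintro _ ⟨b, hb, rfl⟩ hu
      exact d.bad_of_conj hs hb (hv b hb) hu
    have hVH : V ≤ H := by rintro _ ⟨b, hb, rfl⟩; exact hv b hb
    have hVs : ∀ u ∈ V, u * u = 1 := by
      rintro _ ⟨b, hb, rfl⟩
      rw [← map_mul, d.sq b hb, map_one]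
    have hW : V ⊓ A ≤ A ⊓ centralizer ({t} : Set X) := fun w hw => ⟨hw.2, mem_cent_one.2 (by
      obtain ⟨b, hb, rfl⟩ := hw.1
      obtain ⟨c, hc, rfl⟩ := htV
      rw [← map_mul, ← map_mul, d.comm hb hc])⟩
    have h10 := (d.badFam t (hbad t htV htA) (V ⊓ A) hW fun b hb => hbad _ (mul_mem htV hb.1)
      fun h => htA ((Subgroup.mul_mem_cancel_right A hb.2).1 h)).1
    have h9 := d.elem V hVH hVs fun u hu => (em (u ∈ A)).imp_right (hbad u hu)
    rw [hVc] at h9
    have := h9.trans (Nat.mul_le_mul_left _ h10)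
    norm_num at this

section Step

variable {B : Subgroup X} (hB : B ≤ A)
  (good : ∀ e ∈ A, e ∉ B → ∀ y ∈ centralizer (B : Set X), y * e = e * y → y ∈ H)

include hB good

theorem fus {e v : X} (he : e ∈ A) (heB : e ∉ B) (hv : v ∈ centralizer (B : Set X))
    (hve : v * e * v⁻¹ ∈ A) : v ∈ H := by
  have hAC : A ≤ centralizer (B : Set X) := fun a ha b hb => d.comm (hB hb) ha
  refine d.weak hs fun a ha => good (v * e * v⁻¹) hve (fun h => heB ?_) _
    (mul_mem (mul_mem hv (hAC ha)) (inv_mem hv)) ?_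
  · have h1 := hv _ h
    have h2 : v * e * v⁻¹ = e := by
      have h3 : v * e * v⁻¹ * v = v * e := by group
      exact mul_left_cancel (h1.symm.trans h3)
    rwa [h2] at h
  · calc v * a * v⁻¹ * (v * e * v⁻¹) = v * (a * e) * v⁻¹ := by group
      _ = v * e * v⁻¹ * (v * a * v⁻¹) := by rw [d.comm ha he]; group

theorem mem_of_conj {e l : X} (he : e ∈ O) (heB : e ∉ B) (hl : l ∈ centralizer (B : Set X))
    (ht : l * e * l⁻¹ ∈ H) : l * e * l⁻¹ ∈ A := by
  by_contra hn
  have heA := d.subO he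
  set t := l * e * l⁻¹ with htdef
  have hbad := d.bad_of_conj hs heA ht hn
  have hle : B ≤ A ⊓ centralizer ({t} : Set X) := fun b hb => ⟨hB hb, mem_cent_one.2 (by
    have h1 := hl b hb
    calc b * t = (b * l) * e * l⁻¹ := by rw [htdef]; group
      _ = l * (e * b) * l⁻¹ := by rw [h1, mul_assoc l b e, d.comm (hB hb) heA]
      _ = t * b := by
        have h2 : b * l⁻¹ = l⁻¹ * b := inv_mem hl b hb
        rw [htdef, mul_assoc (l * e), ← h2]; group)⟩
  have hfam : ∀ b ∈ B, Bad A H (t * b) := fun b hb => by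
    have e2 : t * b = l * (e * b) * l⁻¹ := by
      rw [htdef, mul_assoc (l * e), ← inv_mem hl b hb]; group
    rw [e2]
    exact d.bad_of_conj hs (mul_mem heA (hB hb)) (e2 ▸ mul_mem ht (d.A_le (hB hb)))
      (e2 ▸ fun h => hn ((Subgroup.mul_mem_cancel_right A (hB hb)).1 h))
  have hB10 := (d.badFam t hbad B hle hfam).1
  set D := A ⊓ centralizer ({t} : Set X) with hD
  have hDc : Nat.card D = 2 ^ 12 := d.badDim t hbad
  have hback : ∀ s ∈ D, s ∉ B → Bad A H (l⁻¹ * s * l) ∧ (l⁻¹ * s * l) * e = e * (l⁻¹ * s * l) := by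
    intro s hs' hsB
    have hc : (l⁻¹ * s * l) * e = e * (l⁻¹ * s * l) :=
      calc (l⁻¹ * s * l) * e = l⁻¹ * (s * t) * l := by rw [htdef]; group
        _ = e * (l⁻¹ * s * l) := by rw [mem_cent_one.1 hs'.2, htdef]; group
    have hsC : s ∈ centralizer (B : Set X) := fun b hb => d.comm (hB hb) hs'.1
    have hH' : l⁻¹ * s * l ∈ H :=
      good e heA heB _ (mul_mem (mul_mem (inv_mem hl) hsC) hl) hc
    refine ⟨?_, hc⟩
    have key := d.bad_of_conj hs (g := l⁻¹) hs'.1 (by rwa [inv_inv])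
    rw [inv_inv] at key
    refine key fun h => ?_
    have hlH : l⁻¹ ∈ H := d.fus hs hB good hs'.1 hsB (inv_mem hl) (by rwa [inv_inv])
    exact hn (d.conj_mem (by simpa using inv_mem hlH) heA)
  obtain ⟨s₁, h1D, h1B⟩ := SetLike.not_le_iff_exists.1 (fun h : D ≤ B => by
    have := Subgroup.card_le_of_le h; omega)
  obtain ⟨s₂, h2D, h2B⟩ := SetLike.not_le_iff_exists.1 (fun h : D ≤ B ⊔ zpowers s₁ => by
    have hN : Nat.card ↥(B ⊔ zpowers s₁) ≤ Nat.card B * 2 := by
      let B₂ : Subgroup X :=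
        { carrier := (B : Set X) ∪ {x | x * s₁ ∈ B}
          one_mem' := Or.inl (one_mem B)
          mul_mem' := fun {x y} hx hy => by
            rcases hx with hx | hx <;> rcases hy with hy | hy
            · exact Or.inl (mul_mem hx hy)
            · exact Or.inr (show x * y * s₁ ∈ B by rw [mul_assoc]; exact mul_mem hx hy)
            · refine Or.inr (show x * y * s₁ ∈ B from ?_)
              rw [mul_assoc, d.comm (hB hy) h1D.1, ← mul_assoc]
              exact mul_mem hx hy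
            · refine Or.inl (show x * y ∈ B from ?_)
              have e7 : x * y = (x * s₁) * (y * s₁) := by
                have hyA : y ∈ A := (Subgroup.mul_mem_cancel_right A h1D.1).1 (hB hy)
                rw [mul_assoc x s₁, ← mul_assoc s₁ y, d.comm h1D.1 hyA, mul_assoc y, d.sq _ h1D.1, mul_one]
              rw [e7]
              exact mul_mem hx hy
          inv_mem' := fun {x} hx => by
            rcases hx with hx | hx
            · exact Or.inl (inv_mem hx)
            · have hxA : x ∈ A := (Subgroup.mul_mem_cancel_right A h1D.1).1 (hB hx)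
              rw [inv_eq_of_mul_eq_one_left (d.sq x hxA)]
              exact Or.inr hx }
      have hle2 : B ⊔ zpowers s₁ ≤ B₂ := sup_le (fun x hx => Or.inl hx)
        (zpowers_le.2 (Or.inr (show s₁ * s₁ ∈ B by rw [d.sq _ h1D.1]; exact one_mem B)))
      have hco : ((B : Set X) ∪ {x | x * s₁ ∈ B}) = (B : Set X) ∪ (fun z => z * s₁⁻¹) '' (B : Set X) := by
        congr 1
        ext x
        exact ⟨fun hx => ⟨x * s₁, hx, mul_inv_cancel_right x s₁⟩, by rintro ⟨z, hz, rfl⟩; simpa using hz⟩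
      refine (Subgroup.card_le_of_le hle2).trans ?_
      show Nat.card ↥((B : Set X) ∪ {x | x * s₁ ∈ B}) ≤ _
      rw [Nat.card_coe_set_eq, hco]
      refine (Set.ncard_union_le _ _).trans ?_
      rw [Set.ncard_image_of_injective _ (mul_left_injective s₁⁻¹), ← Nat.card_coe_set_eq]
      show Nat.card B + Nat.card B ≤ _
      omega
    have := Subgroup.card_le_of_le h
    omega)
  have h2B' : s₂ ∉ B := fun h => h2B (le_sup_left (a := B) h)
  have h12 : s₁ * s₂ ∉ B := fun h => h2B (by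
    have h3 : s₂ = s₁⁻¹ * (s₁ * s₂) := by group
    rw [h3]
    exact mul_mem (inv_mem (le_sup_right (b := zpowers s₁) (mem_zpowers s₁))) (le_sup_left (a := B) h))
  obtain ⟨b1, c1⟩ := hback s₁ h1D h1B
  obtain ⟨b2, c2⟩ := hback s₂ h2D h2B'
  obtain ⟨b12, -⟩ := hback _ (mul_mem h1D h2D) h12
  have e12 : l⁻¹ * (s₁ * s₂) * l = (l⁻¹ * s₁ * l) * (l⁻¹ * s₂ * l) := by group
  refine d.noPair e he _ _ b1 b2 (e12 ▸ b12) ?_ c1 c2
  calc (l⁻¹ * s₁ * l) * (l⁻¹ * s₂ * l) = l⁻¹ * (s₁ * s₂) * l := by group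
    _ = (l⁻¹ * s₂ * l) * (l⁻¹ * s₁ * l) := by rw [d.comm h1D.1 h2D.1]; group

/-- The dihedral argument on cosets modulo `B`. -/
theorem le_of_two_orbits {e b : X} (he : e ∈ O) (heB : e ∉ B) (hb : b ∈ A) (hbB : b ∉ B)
    (hne : ∀ l ∈ centralizer (B : Set X), l * e * l⁻¹ * b ∉ B) :
    centralizer (B : Set X) ≤ H := by
  intro y hy
  by_contra hyH
  set L := centralizer (B : Set X) with hL
  have heA := d.subO he
  have hAC : A ≤ L := fun a ha c hc => d.comm (hB hc) ha
  set f := y * e * y⁻¹ with hfdef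
  have hfL : f ∈ L := mul_mem (mul_mem hy (hAC heA)) (inv_mem hy)
  have hfH : f ∉ H := fun h => hyH (d.fus hs hB good heA heB hy (d.mem_of_conj hs hB good he heB hy h))
  let N : Subgroup L := B.subgroupOf L
  have hN : N.Normal := ⟨fun n hn g => by
    rw [mem_subgroupOf] at hn ⊢
    have h1 : (n : X) * g = g * n := g.2 _ hn
    rw [Subgroup.coe_mul, Subgroup.coe_mul, Subgroup.coe_inv, ← h1, mul_inv_cancel_right]
    exact hn⟩
  let π := QuotientGroup.mk' N
  have heq : ∀ {p q : L}, π p = π q ↔ (p : X)⁻¹ * q ∈ B := fun {p q} => by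
    rw [QuotientGroup.mk'_eq_mk']
    exact ⟨fun ⟨z, hz, hzq⟩ => by
      rw [← hzq, Subgroup.coe_mul, inv_mul_cancel_left]; exact mem_subgroupOf.1 hz,
      fun h => ⟨p⁻¹ * q, mem_subgroupOf.2 (by simpa using h), mul_inv_cancel_left p q⟩⟩
  let b' : L := ⟨b, hAC hb⟩
  let e' : L := ⟨e, hAC heA⟩
  let f' : L := ⟨f, hfL⟩
  let y' : L := ⟨y, hy⟩
  have hfe : f' = y' * e' * y'⁻¹ := Subtype.ext hfdef
  have hbb : π b' * π b' = 1 := by rw [← map_mul, show b' * b' = 1 from Subtype.ext (d.sq b hb), map_one]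
  have hee : π e' * π e' = 1 := by rw [← map_mul, show e' * e' = 1 from Subtype.ext (d.sq e heA), map_one]
  have hff : π f' * π f' = 1 := by
    rw [← map_mul, hfe, show y' * e' * y'⁻¹ * (y' * e' * y'⁻¹) = y' * (e' * e') * y'⁻¹ by group,
      show e' * e' = 1 from Subtype.ext (d.sq e heA)]
    simp
  set w := π b' * π f' with hw
  set n := orderOf w with hn
  have hwn : w ^ n = 1 := pow_orderOf_eq_one w
  have hib : (π b')⁻¹ = π b' := inv_eq_of_mul_eq_one_left hbb
  have hif : (π f')⁻¹ = π f' := inv_eq_of_mul_eq_one_left hff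
  have winv : w⁻¹ = π f' * π b' := by rw [hw, _root_.mul_inv_rev, hib, hif]
  have wb : ∀ k : ℕ, π b' * w ^ k = (w ^ k)⁻¹ * π b' := fun k => by
    induction k with
    | zero => simp
    | succ k ih =>
      have h1 : π b' * w = w⁻¹ * π b' := by
        rw [winv, hw, ← mul_assoc, hbb, one_mul, mul_assoc, hbb, mul_one]
      calc π b' * w ^ (k + 1) = (π b' * w ^ k) * w := by rw [pow_succ, mul_assoc]
        _ = (w ^ k)⁻¹ * (π b' * w) := by rw [ih, mul_assoc]
        _ = (w ^ (k + 1))⁻¹ * π b' := by rw [h1, ← mul_assoc, ← _root_.mul_inv_rev, ← pow_succ']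
  have wf : ∀ k : ℕ, π f' * w ^ k = (w ^ k)⁻¹ * π f' := fun k => by
    induction k with
    | zero => simp
    | succ k ih =>
      have h1 : π f' * w = w⁻¹ * π f' := by
        rw [winv, hw, mul_assoc (π f') (π b') (π f')]
      calc π f' * w ^ (k + 1) = (π f' * w ^ k) * w := by rw [pow_succ, mul_assoc]
        _ = (w ^ k)⁻¹ * (π f' * w) := by rw [ih, mul_assoc]
        _ = (w ^ (k + 1))⁻¹ * π f' := by rw [h1, ← mul_assoc, ← _root_.mul_inv_rev, ← pow_succ']
  have conj_b : ∀ k : ℕ, w ^ k * π b' * (w ^ k)⁻¹ = w ^ (k + k) * π b' := fun k => by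
    have := wb k
    calc w ^ k * π b' * (w ^ k)⁻¹ = w ^ k * (π b' * (w ^ k)⁻¹) := mul_assoc ..
      _ = w ^ k * (w ^ k * π b') := by
        congr 1
        rw [eq_comm, ← mul_inv_eq_iff_eq_mul, inv_inv, mul_assoc, this, mul_inv_cancel_left]
      _ = w ^ (k + k) * π b' := by rw [pow_add, mul_assoc]
  have conj_f : ∀ k : ℕ, w ^ k * π f' * (w ^ k)⁻¹ = w ^ (k + k) * π f' := fun k => by
    have := wf k
    calc w ^ k * π f' * (w ^ k)⁻¹ = w ^ k * (π f' * (w ^ k)⁻¹) := mul_assoc ..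
      _ = w ^ k * (w ^ k * π f') := by
        congr 1
        rw [eq_comm, ← mul_inv_eq_iff_eq_mul, inv_inv, mul_assoc, this, mul_inv_cancel_left]
      _ = w ^ (k + k) * π f' := by rw [pow_add, mul_assoc]
  obtain ⟨wl, hwl0⟩ := QuotientGroup.mk'_surjective N w
  have hwl : π wl = w := hwl0
  rcases Nat.even_or_odd n with ⟨m, hm⟩ | ⟨j, hj⟩
  swap
  · -- odd order: conjugate cosets
    have h1 : w ^ (j + j) * π b' = π f' := by
      have h2 : w ^ (j + j) = w⁻¹ := eq_inv_of_mul_eq_one_left (by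
        rw [← pow_succ, show j + j + 1 = n by omega, hwn])
      rw [h2, winv, mul_assoc, hbb, mul_one]
    have h3 : π ((wl ^ j)⁻¹ * y' * e' * ((wl ^ j)⁻¹ * y')⁻¹) = π b' := by
      have h4 := (conj_b j).trans h1
      rw [show (wl ^ j)⁻¹ * y' * e' * ((wl ^ j)⁻¹ * y')⁻¹ = (wl ^ j)⁻¹ * (y' * e' * y'⁻¹) * (wl ^ j) by group,
        ← hfe, map_mul, map_mul, map_inv, map_pow, hwl, ← h4]
      group
    set l := (wl ^ j)⁻¹ * y'
    refine hne l l.2 ?_
    have h5 := heq.1 h3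
    simp only [Subgroup.coe_mul, Subgroup.coe_inv] at h5
    have h6 : ((l : X) * e * (l : X)⁻¹)⁻¹ = (l : X) * e * (l : X)⁻¹ := by
      rw [show ((l : X) * e * (l : X)⁻¹)⁻¹ = (l : X) * e⁻¹ * (l : X)⁻¹ by group,
        show e⁻¹ = e from inv_eq_of_mul_eq_one_left (d.sq e heA)]
    simpa [b', e', h6] using h5
  · -- even order: the middle power
    have hnpos : 0 < n := orderOf_pos w
    have hmpos : 0 < m := by omega
    set u := wl ^ m with hu
    have hπu : π u = w ^ m := by rw [hu, map_pow, hwl]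
    have huu : w ^ m * w ^ m = 1 := by rw [← pow_add, show m + m = n by omega, hwn]
    have hui : (w ^ m)⁻¹ = w ^ m := inv_eq_of_mul_eq_one_left huu
    have huB : (u : X) ∉ B := fun h => by
      have h1 : w ^ m = 1 := by
        rw [← hπu]; exact (QuotientGroup.eq_one_iff u).2 (mem_subgroupOf.2 h)
      have := orderOf_le_of_pow_eq_one hmpos h1
      omega
    have hub : π (u * b' * u⁻¹) = π b' := by
      rw [map_mul, map_mul, map_inv, hπu, show w ^ m * π b' = π b' * w ^ m by rw [wb m, hui],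
        mul_inv_cancel_right]
    have huH : (u : X) ∈ H := by
      have h5 := heq.1 hub.symm
      refine d.fus hs hB good hb hbB u.2 ?_
      have : (u : X) * b * (u : X)⁻¹ = b * (b⁻¹ * ((u : X) * b * (u : X)⁻¹)) := by group
      rw [this]
      exact mul_mem hb (hB (by simpa [b'] using h5))
    have huA : (u : X) ∉ A := fun h => hfH (by
      have hfu : π (f' * u * f'⁻¹) = π u := by
        rw [map_mul, map_mul, map_inv, hπu, wf m, hui, mul_inv_cancel_right]
      have h5 := heq.1 hfu.symm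
      refine d.fus hs hB good h huB hfL ?_
      have : f * (u : X) * f⁻¹ = u * ((u : X)⁻¹ * (f * (u : X) * f⁻¹)) := by group
      rw [this]
      exact mul_mem h (hB (by simpa [f'] using h5)))
    rcases Nat.even_or_odd m with ⟨j, hj⟩ | ⟨j, hj⟩
    swap
    · -- `u b` is conjugate to `f` modulo `B`
      have h1 : w ^ j * (π b' * π f' * π b') * (w ^ j)⁻¹ = π (u * b') := by
        have h2 : π b' * π f' * π b' = w * π b' := by rw [hw]
        rw [h2, map_mul, hπu, show w ^ j * (w * π b') * (w ^ j)⁻¹ = w * (w ^ j * π b' * (w ^ j)⁻¹) by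
          rw [← mul_assoc (w ^ j) w, ← pow_succ, pow_succ']; group, conj_b, ← mul_assoc, ← pow_succ',
          show j + j + 1 = m by omega]
      set l := wl ^ j * b' * y'
      have h3 : π (l * e' * l⁻¹) = π (u * b') := by
        rw [← h1, show l * e' * l⁻¹ = wl ^ j * (b' * (y' * e' * y'⁻¹) * b'⁻¹) * (wl ^ j)⁻¹ by
          simp only [l]; group, ← hfe]
        simp only [map_mul, map_inv, map_pow, hwl, hib]
      have h5 := heq.1 h3
      have hin : (l : X) * e * (l : X)⁻¹ ∈ H := by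
        have : (l : X) * e * (l : X)⁻¹ = (u : X) * b * (((l : X) * e * (l : X)⁻¹)⁻¹ * (u * b))⁻¹ := by group
        rw [this]
        exact mul_mem (mul_mem huH (d.A_le hb)) (inv_mem (d.A_le (hB (by simpa [e', b'] using h5))))
      have := d.mem_of_conj hs hB good he heB l.2 hin
      refine huA ?_
      have e5 : (u : X) = (l : X) * e * (l : X)⁻¹ * (((l : X) * e * (l : X)⁻¹)⁻¹ * (u * b)) * b⁻¹ := by group
      rw [e5]
      exact mul_mem (mul_mem this (hB (by simpa [e', b'] using h5))) (inv_mem hb)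
    · -- `u f` is conjugate to `f` modulo `B`
      set l := y'⁻¹ * wl ^ j * y'
      set c := y'⁻¹ * u * y'
      have hce : π (c * e' * c⁻¹) = π e' := by
        have hfu : π (u * f' * u⁻¹) = π f' := by
          rw [map_mul, map_mul, map_inv, hπu, show w ^ m * π f' = π f' * w ^ m by rw [wf m, hui],
            mul_inv_cancel_right]
        rw [show c * e' * c⁻¹ = y'⁻¹ * (u * (y' * e' * y'⁻¹) * u⁻¹) * y' by simp only [c]; group, ← hfe,
          map_mul, map_mul, hfu, hfe]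
        simp only [map_mul, map_inv]
        group
      have hcH : (c : X) ∈ H := by
        have h5 := heq.1 hce.symm
        refine d.fus hs hB good heA heB c.2 ?_
        have : (c : X) * e * (c : X)⁻¹ = e * (e⁻¹ * ((c : X) * e * (c : X)⁻¹)) := by group
        rw [this]
        exact mul_mem heA (hB (by simpa [e'] using h5))
      have h3 : π (l * e' * l⁻¹) = π (c * e') := by
        have h1 : π (wl ^ j * f' * (wl ^ j)⁻¹) = π (u * f') := by
          simp only [map_mul, map_inv, map_pow, hwl, hπu, conj_f]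
          rw [show j + j = m by omega]
        rw [show l * e' * l⁻¹ = y'⁻¹ * (wl ^ j * (y' * e' * y'⁻¹) * (wl ^ j)⁻¹) * y' by simp only [l]; group,
          ← hfe, map_mul, map_mul, h1, hfe]
        simp only [c, map_mul, map_inv]
        group
      have h5 := heq.1 h3
      have hin : (l : X) * e * (l : X)⁻¹ ∈ H := by
        have : (l : X) * e * (l : X)⁻¹ = (c : X) * e * (((l : X) * e * (l : X)⁻¹)⁻¹ * (c * e))⁻¹ := by group
        rw [this]
        exact mul_mem (mul_mem hcH (d.A_le heA)) (inv_mem (d.A_le (hB (by simpa [e'] using h5))))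
      have hlA := d.mem_of_conj hs hB good he heB l.2 hin
      have hcA : (c : X) ∈ A := by
        have e5 : (c : X) = (l : X) * e * (l : X)⁻¹ * (((l : X) * e * (l : X)⁻¹)⁻¹ * (c * e)) * e⁻¹ := by group
        rw [e5]
        exact mul_mem (mul_mem hlA (hB (by simpa [e'] using h5))) (inv_mem heA)
      have huc : (u : X) = y * (c : X) * y⁻¹ := by simp [c, y']; group
      have hyc : ∀ z ∈ B, y * z * y⁻¹ = z := fun z hz => by rw [← hy z hz, mul_inv_cancel_right]
      have hbad : ∀ z ∈ B, Bad A H ((u : X) * z) := fun z hz => by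
        have e2 : (u : X) * z = y * ((c : X) * z) * y⁻¹ := by
          nth_rewrite 1 [← hyc z hz]; rw [huc]; group
        rw [e2]
        exact d.bad_of_conj hs (mul_mem hcA (hB hz)) (e2 ▸ mul_mem huH (d.A_le (hB hz)))
          (e2 ▸ fun h => huA ((Subgroup.mul_mem_cancel_right A (hB hz)).1 h))
      have hbu : Bad A H (u : X) := by simpa using hbad 1 (one_mem B)
      have hBD : B ≤ A ⊓ centralizer ({(u : X)} : Set X) :=
        fun z hz => ⟨hB hz, mem_cent_one.2 (u.2 z hz)⟩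
      obtain ⟨-, e₂, he₂, he₂D, he₂B⟩ := d.badFam _ hbu B hBD hbad
      have hcB : (c : X) ∉ B := fun h => huB (by rw [huc, hyc _ h]; exact h)
      have hcomm : y⁻¹ * e₂ * y * (c : X) = (c : X) * (y⁻¹ * e₂ * y) := by
        calc y⁻¹ * e₂ * y * (c : X) = y⁻¹ * (e₂ * (u : X)) * y := by rw [huc]; group
          _ = (c : X) * (y⁻¹ * e₂ * y) := by rw [mem_cent_one.1 he₂D.2, huc]; group
      have hz := good (c : X) hcA hcB _ (mul_mem (mul_mem (inv_mem hy) (hAC he₂D.1)) hy) hcomm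
      have hzA : y⁻¹ * e₂ * y⁻¹⁻¹ ∈ A :=
        d.mem_of_conj hs hB good he₂ he₂B (inv_mem hy) (by rwa [inv_inv])
      exact hyH (by simpa using inv_mem (d.fus hs hB good he₂D.1 he₂B (inv_mem hy) hzA))

end Step

theorem le_of_hyperplane {B : Subgroup X} (hB : B ≤ A) (hc : Nat.card B = 2 ^ 19) :
    centralizer (B : Set X) ≤ H := by
  have : Fact (Nat.Prime 3) := ⟨Nat.prime_three⟩
  obtain ⟨E, hEH, hEB, hE9, hE3, hEc⟩ := d.hyper B hB hc
  set L := centralizer (B : Set X) with hL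
  have hLH : ¬ 3 ∣ Nat.card ↥(L ⊓ H) := fun h => by
    obtain ⟨y, hy, hyo⟩ := exists_three h
    have hle : B ≤ A ⊓ centralizer ({y} : Set X) := fun b hb => ⟨hB hb, mem_cent_one.2 (hy.1 b hb)⟩
    have := (Subgroup.card_le_of_le hle).trans_lt (d.move3 y hy.2 hyo)
    rw [hc] at this
    norm_num at this
  have hEL : E ≤ normalizer (L : Set X) := fun e he => mem_normalizer_iff.2 fun v => by
    have hb := mem_normalizer_iff.1 (hEB he)
    constructor
    · intro hv z hz
      have h1 := hv (e⁻¹ * z * e) ((hb _).2 (by simpa [mul_assoc] using hz))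
      calc z * (e * v * e⁻¹) = e * (e⁻¹ * z * e * v) * e⁻¹ := by group
        _ = e * v * e⁻¹ * z := by rw [h1]; group
    · intro hv z hz
      have h1 := hv (e * z * e⁻¹) ((hb z).1 hz)
      calc z * v = e⁻¹ * (e * z * e⁻¹ * (e * v * e⁻¹)) * e := by group
        _ = v * z := by rw [h1]; group
  have hE3' : IsPGroup 3 E := IsPGroup.of_card (n := 2) hE9
  have hL3 : ¬ 3 ∣ Nat.card L := fun h => by
    obtain ⟨v, hv, hvo⟩ := exists_three h
    let Y : Subgroup X := L ⊔ E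
    have hYN : (L.subgroupOf Y).Normal := by
      refine normal_subgroupOf_of_le_normalizer ?_
      exact sup_le le_normalizer hEL
    have hvp : IsPGroup 3 (zpowers (⟨v, le_sup_left (b := E) hv⟩ : Y)) :=
      IsPGroup.of_card (n := 1) (by rw [Nat.card_zpowers, Subgroup.orderOf_mk, hvo, pow_one])
    obtain ⟨P, hP⟩ := hvp.exists_le_sylow
    have hEp : IsPGroup 3 (E.subgroupOf Y) :=
      hE3'.of_equiv (subgroupOfEquivOfLe (le_sup_right : E ≤ Y)).symm
    obtain ⟨Q, hQ⟩ := hEp.exists_le_sylow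
    obtain ⟨c, hcPQ⟩ := MulAction.exists_smul_eq Y P Q
    obtain ⟨e, he, heo⟩ := exists_three (M := E) (by rw [hE9]; norm_num)
    have hQH : (Q : Subgroup Y).map Y.subtype ≤ H :=
      hs.le_of_isPGroup (Q.isPGroup'.map _)
        ⟨⟨e, le_sup_right (a := L) he⟩, hQ (mem_subgroupOf.2 he), rfl⟩ (hEH he) heo
    have hcm : c * ⟨v, le_sup_left (b := E) hv⟩ * c⁻¹ ∈ (Q : Subgroup Y) := by
      rw [← hcPQ, Sylow.coe_subgroup_smul]
      exact Subgroup.smul_mem_pointwise_smul _ (MulAut.conj c) _ (hP (mem_zpowers _))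
    have hcL : (c : X) * v * (c : X)⁻¹ ∈ L := mem_subgroupOf.1
      (hYN.conj_mem ⟨v, le_sup_left (b := E) hv⟩ (mem_subgroupOf.2 hv) c)
    refine hLH ?_
    have ho : orderOf ((c : X) * v * (c : X)⁻¹) = 3 := by
      rw [← hvo]; exact orderOf_injective (MulAut.conj (c : X)).toMonoidHom (MulAut.conj (c : X)).injective v
    have hin : (c : X) * v * (c : X)⁻¹ ∈ L ⊓ H := Subgroup.mem_inf.2 ⟨hcL, hQH ⟨_, hcm, rfl⟩⟩
    rw [← ho, ← Subgroup.orderOf_mk ((c : X) * v * (c : X)⁻¹) hin]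
    exact orderOf_dvd_natCard _
  have : IsMulCommutative E := ⟨⟨fun a b => Subtype.ext (hEc a a.2 b b.2)⟩⟩
  have hcyc : ¬ IsCyclic E := fun hC => by
    obtain ⟨g, hg⟩ := hC.exists_generator
    have h1 : orderOf g = 9 := by rw [orderOf_eq_card_of_forall_mem_zpowers hg, hE9]
    have h2 : g ^ 3 = 1 := Subtype.ext (hE3 g g.2)
    have := orderOf_le_of_pow_eq_one (by norm_num) h2
    omega
  rw [← Coprime.iSup_centralizer_eq hcyc hEL (by
    rw [hE9]; exact Nat.Coprime.pow_left 2 (Nat.prime_three.coprime_iff_not_dvd.2 hL3))]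
  refine iSup₂_le fun e ⟨he, he1⟩ v hv => ?_
  have heo : orderOf e = 3 := orderOf_eq_prime (hE3 e he) he1
  exact hs v e (hEH he) heo (by rw [mem_cent_one.1 hv.2, mul_inv_cancel_right]; exact hEH he)

theorem exists_other_orbit {B : Subgroup X} (hB : B ≤ A) {e : X} (he : e ∈ A) (heB : e ∉ B)
    (hc : Nat.card B ≠ 2 ^ 19) :
    ∃ b ∈ A, b ∉ B ∧ ∀ h ∈ H ⊓ centralizer (B : Set X), h * e * h⁻¹ * b ∉ B := by
  by_contra hcon
  push Not at hcon
  set M := H ⊓ centralizer (B : Set X) with hM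
  let N : Subgroup A := B.subgroupOf A
  have hN : N.Normal := ⟨fun n hn g => by
    rw [mem_subgroupOf] at hn ⊢
    rw [Subgroup.coe_mul, Subgroup.coe_mul, Subgroup.coe_inv, d.comm g.2 n.2, mul_inv_cancel_right]
    exact hn⟩
  let F : M → A ⧸ N := fun h => QuotientGroup.mk' N ⟨h * e * (h : X)⁻¹, d.conj_mem h.2.1 he⟩
  let St : Subgroup M :=
    { carrier := {h | (h : X) * e * (h : X)⁻¹ * e ∈ B}
      one_mem' := by simp [d.sq e he]
      mul_mem' := fun {g h} hg hh => by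
        have h1 : (g : X) * ((h : X) * e * (h : X)⁻¹ * e) * (g : X)⁻¹ = (h : X) * e * (h : X)⁻¹ * e := by
          rw [← g.2.2 _ hh, mul_inv_cancel_right]
        show ((g * h : M) : X) * e * ((g * h : M) : X)⁻¹ * e ∈ B
        have e3 : ((g * h : M) : X) * e * ((g * h : M) : X)⁻¹ * e =
            ((g : X) * ((h : X) * e * (h : X)⁻¹ * e) * (g : X)⁻¹) * ((g : X) * e⁻¹ * (g : X)⁻¹ * e) := by
          simp only [Subgroup.coe_mul]; group
        rw [e3, h1, show e⁻¹ = e from inv_eq_of_mul_eq_one_left (d.sq e he)]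
        exact mul_mem hh hg
      inv_mem' := fun {h} hh => by
        show ((h⁻¹ : M) : X) * e * ((h⁻¹ : M) : X)⁻¹ * e ∈ B
        have hm : ((h : X) * e * (h : X)⁻¹ * e)⁻¹ ∈ B := inv_mem (show _ ∈ B from hh)
        have h1 : (h : X)⁻¹ * ((h : X) * e * (h : X)⁻¹ * e)⁻¹ * (h : X) = ((h : X) * e * (h : X)⁻¹ * e)⁻¹ := by
          rw [mul_assoc, h.2.2 _ hm, inv_mul_cancel_left]
        rw [← h1, _root_.mul_inv_rev, _root_.mul_inv_rev, _root_.mul_inv_rev, inv_inv,
          inv_eq_of_mul_eq_one_left (d.sq e he)] at hm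
        simpa [mul_assoc] using hm }
  have hF : ∀ g h : M, F g = F h ↔ g⁻¹ * h ∈ St := by
    intro g h
    simp only [F, QuotientGroup.mk'_apply, QuotientGroup.eq, N, mem_subgroupOf]
    show _ ↔ ((g⁻¹ * h : M) : X) * e * ((g⁻¹ * h : M) : X)⁻¹ * e ∈ B
    constructor
    · intro hb
      have h2 := g.2.2 _ hb
      have e4 : ((g⁻¹ * h : M) : X) * e * ((g⁻¹ * h : M) : X)⁻¹ * e =
          (g : X)⁻¹ * (((g : X) * e * (g : X)⁻¹)⁻¹ * ((h : X) * e * (h : X)⁻¹)) * (g : X) := by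
        have hei : e⁻¹ = e := inv_eq_of_mul_eq_one_left (d.sq e he)
        have hc2 : ((g : X)⁻¹ * ((h : X) * e * (h : X)⁻¹) * g) * e = e * ((g : X)⁻¹ * ((h : X) * e * (h : X)⁻¹) * g) := by
          apply d.comm _ he
          have := d.conj_mem (inv_mem g.2.1) (d.conj_mem h.2.1 he)
          simpa [mul_assoc] using this
        simp only [Subgroup.coe_mul, Subgroup.coe_inv]
        calc _ = ((g : X)⁻¹ * ((h : X) * e * (h : X)⁻¹) * g) * e := by group
          _ = e * ((g : X)⁻¹ * ((h : X) * e * (h : X)⁻¹) * g) := hc2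
          _ = _ := by
            nth_rewrite 1 [← hei]
            group
      rw [e4]
      simp only [Subgroup.coe_mul, Subgroup.coe_inv] at hb h2 ⊢
      rw [mul_assoc, h2, inv_mul_cancel_left]
      exact hb
    · intro hb
      have h2 := g.2.2 _ hb
      have e4 : ((g : X) * e * (g : X)⁻¹)⁻¹ * ((h : X) * e * (h : X)⁻¹) =
          (g : X) * (((g⁻¹ * h : M) : X) * e * ((g⁻¹ * h : M) : X)⁻¹ * e) * (g : X)⁻¹ := by
        have hei : e⁻¹ = e := inv_eq_of_mul_eq_one_left (d.sq e he)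
        have hc2 : ((g : X)⁻¹ * ((h : X) * e * (h : X)⁻¹) * g) * e = e * ((g : X)⁻¹ * ((h : X) * e * (h : X)⁻¹) * g) := by
          apply d.comm _ he
          have := d.conj_mem (inv_mem g.2.1) (d.conj_mem h.2.1 he)
          simpa [mul_assoc] using this
        simp only [Subgroup.coe_mul, Subgroup.coe_inv]
        symm
        calc _ = (g : X) * (((g : X)⁻¹ * ((h : X) * e * (h : X)⁻¹) * g) * e) * (g : X)⁻¹ := by group
          _ = (g : X) * (e * ((g : X)⁻¹ * ((h : X) * e * (h : X)⁻¹) * g)) * (g : X)⁻¹ := by rw [hc2]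
          _ = _ := by
            nth_rewrite 1 [← hei]
            group
      simp only [Subgroup.coe_mul, Subgroup.coe_inv] at hb h2 e4 ⊢
      rw [e4, ← h2, mul_inv_cancel_right]
      exact hb
  have hcardS : Nat.card (M ⧸ St) = Nat.card {q : A ⧸ N // q ≠ 1} := by
    refine Nat.card_eq_of_bijective (fun q => Quotient.liftOn' q (fun h => ⟨F h, ?_⟩) ?_) ⟨?_, ?_⟩
    · intro h1
      simp only [F, QuotientGroup.mk'_apply, QuotientGroup.eq_one_iff, N, mem_subgroupOf] at h1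
      refine heB ?_
      have := h.2.2 _ h1
      have e6 : e = (h : X)⁻¹ * ((h : X) * e * (h : X)⁻¹) * h := by group
      rw [e6, mul_assoc, this, inv_mul_cancel_left]
      exact h1
    · intro g h hgh
      exact Subtype.ext ((hF g h).2 (QuotientGroup.leftRel_apply.1 hgh))
    · intro p q
      refine Quotient.inductionOn₂' p q fun g h hgh => ?_
      exact Quotient.sound' (QuotientGroup.leftRel_apply.2 ((hF g h).1 (congrArg Subtype.val hgh)))
    · rintro ⟨q, hq⟩
      obtain ⟨b, rfl⟩ := QuotientGroup.mk'_surjective N q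
      have hbB : (b : X) ∉ B := fun h => hq ((QuotientGroup.eq_one_iff b).2 (mem_subgroupOf.2 h))
      obtain ⟨h, hh, hbe⟩ := hcon b b.2 hbB
      refine ⟨QuotientGroup.mk (⟨h, hh⟩ : M), Subtype.ext ?_⟩
      show F ⟨h, hh⟩ = QuotientGroup.mk' N b
      simp only [F, QuotientGroup.mk'_apply, QuotientGroup.eq, N, mem_subgroupOf]
      rwa [Subgroup.coe_mul, Subgroup.coe_inv, inv_eq_of_mul_eq_one_left (d.sq _ (d.conj_mem hh.1 he))]
  obtain ⟨i, hi20, hBc⟩ := (Nat.dvd_prime_pow Nat.prime_two).1 (d.cardA ▸ Subgroup.card_dvd_of_le hB)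
  have hQ : Nat.card (A ⧸ N) = 2 ^ (20 - i) := by
    have h1 := Subgroup.card_eq_card_quotient_mul_card_subgroup N
    rw [d.cardA, Nat.card_congr (subgroupOfEquivOfLe hB).toEquiv, hBc] at h1
    refine Nat.eq_of_mul_eq_mul_right (show 0 < 2 ^ i by positivity) ?_
    rw [← h1, ← pow_add, Nat.sub_add_cancel hi20]
  have hS : Nat.card (M ⧸ St) = 2 ^ (20 - i) - 1 := by
    have := Fintype.ofFinite (A ⧸ N)
    classical
    rw [hcardS, Nat.card_eq_fintype_card, Fintype.card_subtype_compl, Fintype.card_subtype_eq,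
      ← Nat.card_eq_fintype_card, hQ]
  have hdvd : 2 ^ (20 - i) - 1 ∣ Nat.card M :=
    hS ▸ Dvd.intro _ (Subgroup.card_eq_card_quotient_mul_card_subgroup St).symm
  have hdvdH : 2 ^ (20 - i) - 1 ∣ 2 ^ 36 * 3 ^ 6 * 5 * 7 * 11 :=
    hdvd.trans ((Subgroup.card_dvd_of_le inf_le_left).trans d.order)
  have hi19 : i ≠ 19 := fun h => hc (by rw [hBc, h])
  have hi : i ≠ 20 := fun h => by
    have : B = A := eq_of_le_of_card_ge hB (by rw [hBc, h, d.cardA])
    exact heB (this ▸ he)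
  have elt : ∀ p, p.Prime → p ∣ Nat.card M → ∃ y ∈ H, orderOf y = p ∧
      2 ^ i ≤ Nat.card ↥(A ⊓ centralizer ({y} : Set X)) := fun p hp hpd => by
    have : Fact p.Prime := ⟨hp⟩
    obtain ⟨y, hy⟩ := exists_prime_orderOf_dvd_card' p hpd
    exact ⟨y, y.2.1, (Subgroup.orderOf_coe y).trans hy, hBc ▸ Subgroup.card_le_of_le
      (fun b hb => ⟨hB hb, mem_cent_one.2 (y.2.2 b hb)⟩)⟩
  have hcases : i = 18 ∨ i = 17 ∨ i = 16 ∨ i = 14 := exponents i (by omega) hdvdH
  rcases hcases with rfl | rfl | rfl | rfl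
  · obtain ⟨y, hy, ho, hle⟩ := elt 3 Nat.prime_three ((by norm_num : 3 ∣ 2 ^ (20 - 18) - 1).trans hdvd)
    exact absurd (hle.trans_lt (d.move3 y hy ho)) (by norm_num)
  · obtain ⟨y, hy, ho, hle⟩ := elt 7 (by norm_num) ((by norm_num : 7 ∣ 2 ^ (20 - 17) - 1).trans hdvd)
    exact absurd (hle.trans_lt (d.move7 y hy ho)) (by norm_num)
  · obtain ⟨y, hy, ho, hle⟩ := elt 5 (by norm_num) ((by norm_num : 5 ∣ 2 ^ (20 - 16) - 1).trans hdvd)
    exact absurd (hle.trans_lt (d.move5 y hy ho)) (by norm_num)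
  · obtain ⟨y, hy, ho, hle⟩ := elt 7 (by norm_num) ((by norm_num : 7 ∣ 2 ^ (20 - 14) - 1).trans hdvd)
    exact absurd (hle.trans_lt (d.move7 y hy ho)) (by norm_num)

/-- Every centraliser of a subgroup of `A` lies in `H`. -/
theorem centralizer_le : ∀ B ≤ A, centralizer (B : Set X) ≤ H := by
  suffices h : ∀ n, ∀ B ≤ A, 2 ^ 20 - Nat.card B = n → centralizer (B : Set X) ≤ H from
    fun B hB => h _ B hB rfl
  intro n
  induction n using Nat.strong_induction_on with
  | _ n ih =>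
  intro B hB hn
  by_cases hBA : B = A
  · subst hBA
    rw [d.hH]
    exact centralizer_le_normalizer _
  by_cases hc : Nat.card B = 2 ^ 19
  · exact d.le_of_hyperplane hs hB hc
  have hlt : ∀ B', B < B' → B' ≤ A → centralizer (B' : Set X) ≤ H := fun B' h1 h2 => by
    have hc1 : Nat.card B < Nat.card B' := by
      refine lt_of_le_of_ne (Subgroup.card_le_of_le h1.le) fun h => h1.ne (eq_of_le_of_card_ge h1.le h.ge)
    have hc2 := Subgroup.card_le_of_le h2
    rw [d.cardA] at hc2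
    exact ih _ (by omega) B' h2 rfl
  have good : ∀ e ∈ A, e ∉ B → ∀ y ∈ centralizer (B : Set X), y * e = e * y → y ∈ H := by
    intro e he heB y hy hye
    refine hlt (B ⊔ zpowers e) (lt_of_le_of_ne le_sup_left fun h => heB (h ▸ le_sup_right (a := B) (mem_zpowers e)))
      (sup_le hB (zpowers_le.2 he)) ?_
    have : B ⊔ zpowers e ≤ centralizer ({y} : Set X) :=
      sup_le (fun b hb => mem_cent_one.2 (hy b hb)) (zpowers_le.2 (mem_cent_one.2 hye.symm))
    exact fun z hz => mem_cent_one.1 (this hz)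
  obtain ⟨e, he, heB⟩ := d.span B hB hBA
  obtain ⟨b, hb, hbB, hno⟩ := d.exists_other_orbit hs hB (d.subO he) heB hc
  refine d.le_of_two_orbits hs hB good he heB hb hbB fun l hl h => hno l ⟨?_, hl⟩ h
  refine d.fus hs hB good (d.subO he) heB hl ?_
  have : l * e * l⁻¹ = l * e * l⁻¹ * b * b⁻¹ := by group
  rw [this]
  exact mul_mem (hB h) (inv_mem hb)

/-- The conclusion. -/
theorem eq_top : H = ⊤ :=
  top_le_iff.1 fun x _ => d.centralizer_le hs ⊥ bot_le (fun b hb => by
    rw [show b = 1 from (Subgroup.mem_bot).1 hb, one_mul, mul_one])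

end Local

end Cfsg.Agent.U62Mod
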