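import Cfsg.Agent.U62Mod.Check

/-!
# The monomial subgroup determines a basis
-/

set_option autoImplicit false

namespace Cfsg.Agent.U62Mod

open Cfsg.Agent.Compute Cfsg.Agent.StemCert

theorem wdP_nil : wdP [] = 1 := map_one _

theorem wdP_append (a b : List ℕ) : wdP (a ++ b) = wdP a * wdP b := by
  simp [wdP, wdS, List.prod_append]

theorem wdP_cons (s : ℕ) (w : List ℕ) : wdP (s :: w) = wdP [s] * wdP w := wdP_append [s] w

theorem wdP_replicate (s n : ℕ) : wdP (List.replicate n s) = wdP [s] ^ n := by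
  induction n with
  | zero => simp [wdP_nil]
  | succ n ih => rw [List.replicate_succ, wdP_cons, ih, pow_succ']

theorem wdP_single {s : ℕ} (hs : s < 11) : wdP [s] = gP ⟨s, hs⟩ := by
  simp [wdP, wdS, gSN, hs, gP]

theorem diag_cube {i : ℕ} (hi : i < 4) : wdP [i] ^ 3 = 1 := by
  have h := diag_rel
  simp only [allBelow_eq_true, Bool.and_eq_true] at h
  rw [← wdP_replicate, ← wdP_nil]
  exact eq_of_eqW (h i hi).1

theorem diag_comm {i j : ℕ} (hi : i < 4) (hj : j < 4) : Commute (wdP [i]) (wdP [j]) := by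
  have h := diag_rel
  simp only [allBelow_eq_true, Bool.and_eq_true] at h
  rw [Commute, SemiconjBy, ← wdP_cons, ← wdP_cons]
  exact eq_of_eqW ((h i hi).2 j hj)

/-- A power with an exponent modulo three. -/
noncomputable def dPow (i : ℕ) (x : ZMod 3) : Pu := wdP [i] ^ x.val

theorem dPow_add {i : ℕ} (hi : i < 4) (x y : ZMod 3) : dPow i (x + y) = dPow i x * dPow i y := by
  rw [dPow, dPow, dPow, ← pow_add, ZMod.val_add]
  conv_rhs => rw [← Nat.mod_add_div (x.val + y.val) 3, pow_add, pow_mul, diag_cube hi, one_pow, mul_one]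

/-- The diagonal subgroup. -/
noncomputable def dz : Multiplicative Z4 →* Pu :=
  MonoidHom.mk' (fun z => dPow 0 (z.toAdd 0) * dPow 1 (z.toAdd 1) * dPow 2 (z.toAdd 2) * dPow 3 (z.toAdd 3))
    fun z w => by
      have c : ∀ {i j : ℕ}, i < 4 → j < 4 → ∀ x y, Commute (dPow i x) (dPow j y) := fun hi hj x y =>
        ((diag_comm hi hj).pow_pow x.val y.val)
      simp only [toAdd_mul, Pi.add_apply]
      rw [dPow_add (by norm_num), dPow_add (by norm_num), dPow_add (by norm_num), dPow_add (by norm_num)]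
      simp only [mul_assoc]
      rw [(c (i := 3) (j := 0) (by norm_num) (by norm_num) (z.toAdd 3) (w.toAdd 0)).left_comm,
        (c (i := 2) (j := 0) (by norm_num) (by norm_num) (z.toAdd 2) (w.toAdd 0)).left_comm,
        (c (i := 1) (j := 0) (by norm_num) (by norm_num) (z.toAdd 1) (w.toAdd 0)).left_comm,
        (c (i := 3) (j := 1) (by norm_num) (by norm_num) (z.toAdd 3) (w.toAdd 1)).left_comm,
        (c (i := 2) (j := 1) (by norm_num) (by norm_num) (z.toAdd 2) (w.toAdd 1)).left_comm,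
        (c (i := 3) (j := 2) (by norm_num) (by norm_num) (z.toAdd 3) (w.toAdd 2)).left_comm]

theorem dz_single {j : Fin 4} : dz (Multiplicative.ofAdd (Pi.single j 1)) = wdP [j.1] := by
  have h1 : (1 : ZMod 3).val = 1 := rfl
  fin_cases j <;> simp [dz, dPow, Pi.single_apply, h1]

theorem dz_word (v : Z4) :
    dz (Multiplicative.ofAdd v) = wdP (zWord (v 0).val (v 1).val (v 2).val (v 3).val) := by
  simp [dz, dPow, zWord, wdP_append, wdP_replicate, mul_assoc]

theorem swap_sq {s : ℕ} (hs : s < 5) : wdP [s + 5] * wdP [s + 5] = 1 := by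
  have h := swap_rel
  simp only [allBelow_eq_true, Bool.and_eq_true] at h
  rw [← wdP_append, ← wdP_nil]
  exact eq_of_eqW (h s hs).1

/-- The exchange on exponents. -/
def swapZ (s : ℕ) (z : Z4) : Z4 := ∑ j : Fin 4, z j • swapV s j.1

theorem dot_swapZ (s : ℕ) (l z : Z4) : dot l (swapZ s z) = dot (swapF s l) z := by
  simp only [dot, swapZ, swapF, Fin.sum_univ_four, Pi.add_apply, Pi.smul_apply, smul_eq_mul]
  ring

theorem swap_dz {s : ℕ} (hs : s < 5) (z : Z4) :
    wdP [s + 5] * dz (Multiplicative.ofAdd z) * wdP [s + 5] = dz (Multiplicative.ofAdd (swapZ s z)) := by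
  have hi : (wdP [s + 5])⁻¹ = wdP [s + 5] := inv_eq_of_mul_eq_one_left (swap_sq hs)
  have hbase : ∀ j : Fin 4, wdP [s + 5] * wdP [j.1] * wdP [s + 5] = dz (Multiplicative.ofAdd (swapV s j.1)) := by
    intro j
    have h := swap_rel
    simp only [allBelow_eq_true, Bool.and_eq_true] at h
    have hv : ∀ i : Fin 4, (swapV s j.1 i).val = (swapL s j.1).getD i.1 0 := fun i => by
      rw [swapV, ZMod.val_natCast, Nat.mod_eq_of_lt (swap_lt ⟨s, hs⟩ j i)]
    rw [dz_word, hv, hv, hv, hv, mul_assoc, ← wdP_cons, ← wdP_cons]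
    exact eq_of_eqW ((h s hs).2 j.1 j.2)
  let f : Multiplicative Z4 →* Pu := (MulAut.conj (wdP [s + 5])).toMonoidHom.comp dz
  have hf : ∀ v, f (Multiplicative.ofAdd v) = wdP [s + 5] * dz (Multiplicative.ofAdd v) * wdP [s + 5] :=
    fun v => by simp [f, hi]
  rw [← hf]
  conv_lhs => rw [show z = ∑ j : Fin 4, z j • Pi.single j (1 : ZMod 3) by
    funext i; simp [Finset.sum_apply, Pi.single_apply]]
  rw [swapZ]
  have key : ∀ (x : ZMod 3) (v : Z4), Multiplicative.ofAdd (x • v) = Multiplicative.ofAdd v ^ x.val :=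
    fun x v => by
      rw [← ofAdd_nsmul]
      congr 1
      funext i
      simp [ZMod.natCast_zmod_val]
  simp only [Fin.sum_univ_four, ofAdd_add, map_mul, key, map_pow, hf, dz_single, hbase]

variable {M : Type*} [CommGroup M] (ρ : Pu →* MulAut M)

/-- The action of the diagonal subgroup. -/
noncomputable def diagAct : Multiplicative Z4 →* MulAut M := ρ.comp dz

/-- The weight spaces. -/
noncomputable abbrev wtM (l : Z4) : Subgroup M := Weights.wt (diagAct ρ) l

/-- Hypotheses: exponent two, order `2 ^ 20`, and the first diagonal generator moves something. -/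
structure Module20 : Prop where
  sq : ∀ a : M, a * a = 1
  card : Nat.card M = 2 ^ 20
  moved : ∃ a, ρ (wdP [0]) a ≠ a

variable {ρ}

theorem move_mem {s : ℕ} (hs : s < 5) {l : Z4} {a : M} (ha : a ∈ wtM ρ l) :
    ρ (wdP [s + 5]) a ∈ wtM ρ (swapF s l) := by
  have hact : ∀ z, Weights.act (diagAct ρ) z (ρ (wdP [s + 5]) a) =
      ρ (wdP [s + 5]) (Weights.act (diagAct ρ) (swapZ s z) a) := fun z => by
    show ρ (dz (Multiplicative.ofAdd z)) (ρ (wdP [s + 5]) a) = _
    show _ = ρ (wdP [s + 5]) (ρ (dz (Multiplicative.ofAdd (swapZ s z))) a)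
    rw [← MulAut.mul_apply, ← map_mul, ← MulAut.mul_apply, ← map_mul, ← swap_dz hs z, ← mul_assoc,
      ← mul_assoc, swap_sq hs, one_mul]
  refine fun z => ⟨fun h => ?_, fun h => ?_⟩
  · rw [hact, (ha (swapZ s z)).1 (by rw [dot_swapZ]; exact h)]
  · have h1 := (ha (swapZ s z)).2 (by rw [dot_swapZ]; exact h)
    simp only [Weights.nrm, hact] at h1 ⊢
    rw [show swapZ s (z + z) = swapZ s z + swapZ s z by
      simp [swapZ, add_smul, Finset.sum_add_distrib], ← map_mul, ← map_mul, h1, map_one]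

theorem moveW_mem : ∀ (w : List ℕ) (l : Z4), (∀ s ∈ w, s < 5) → ∀ a ∈ wtM ρ l,
    ρ (wdP (w.reverse.map (· + 5))) a ∈ wtM ρ (moveF w l)
  | [], l, _, a, ha => by simpa [wdP_nil, moveF] using ha
  | s :: w, l, h, a, ha => by
    have h1 := move_mem (h s (List.mem_cons_self ..)) ha
    have h2 := moveW_mem w _ (fun x hx => h x (List.mem_cons_of_mem _ hx)) _ h1
    rw [List.reverse_cons, List.map_append, wdP_append, map_mul, MulAut.mul_apply]
    exact h2

theorem move_word {w : List ℕ} (hw : ∀ s ∈ w, 5 ≤ s ∧ s < 10) {l : Z4} {a : M} (ha : a ∈ wtM ρ l) :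
    ρ (wdP w) a ∈ wtM ρ (moveF ((w.map fun s => s - 5).reverse) l) := by
  have h := moveW_mem ((w.map fun s => s - 5).reverse) l (fun s hs => by
    rw [List.mem_reverse, List.mem_map] at hs
    obtain ⟨x, hx, rfl⟩ := hs
    have := hw x hx; omega) a ha
  have e : List.map (fun x => x + 5) (w.map fun s => s - 5) = w := by
    rw [List.map_map]
    conv_rhs => rw [← List.map_id w]
    exact List.map_congr_left fun x hx => by
      have := hw x hx
      show x - 5 + 5 = x
      omega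
  rwa [List.reverse_reverse, e] at h

theorem wt_neg (l : Z4) : wtM ρ (-l) = wtM ρ l := by
  have e : ∀ z, dot (-l) z = - dot l z := fun z => by simp [dot]; ring
  ext a
  simp only [Weights.mem_wt, e, neg_eq_zero, ne_eq]

/-- The basis and the action of the monomial generators. -/
structure MonFrame (ρ : Pu →* MulAut M) (β : ℕ → M) : Prop where
  hom : ∀ a b, a < 2 ^ 20 → b < 2 ^ 20 → β (a ^^^ b) = β a * β b
  inj : ∀ a b, a < 2 ^ 20 → b < 2 ^ 20 → β a = β b → a = b
  surj : ∀ x, ∃ v, v < 2 ^ 20 ∧ β v = x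
  gen : ∀ k, k < 10 → ∀ v, v < 2 ^ 20 → ρ (wdP [k]) (β v) = β (app (modOf k) v)

variable [Finite M] (h : Module20 ρ)

include h

theorem exists_lam0 : ∃ a ∈ wtM ρ lam0, a ≠ 1 := by
  obtain ⟨a0, ha0⟩ := h.moved
  obtain ⟨l, hl, a, ha, ha1⟩ := Weights.exists_wt (diagAct ρ) h.sq (i := 0) (a₀ := a0) (by
    show ρ (dz (Multiplicative.ofAdd (Pi.single (0 : Fin 4) 1))) a0 ≠ a0
    rw [dz_single]; exact ha0)
  obtain ⟨n, rfl⟩ := lamOf_surj l
  have hb : ∀ i : ℕ, ρ (wdP (((orbTab.getD n.1 []).getD i []).reverse.map (· + 5))) a ∈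
      wtM ρ (moveF ((orbTab.getD n.1 []).getD i []) (lamOf n.1)) := fun i => by
    refine moveW_mem _ _ (fun s hs => ?_) a ha
    by_cases hi : i < (orbTab.getD n.1 []).length
    · exact orbit_letters n _ (by rw [List.getD_eq_getElem _ _ hi]; exact List.getElem_mem hi) s hs
    · rw [List.getD_eq_default _ _ (not_lt.1 hi)] at hs; simp at hs
  have hne : ∀ w, ρ (wdP w) a ≠ 1 := fun w e => ha1 ((ρ (wdP w)).injective (e.trans (map_one _).symm))
  rcases orbit_all n with h0 | ⟨-, h1⟩ | h11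
  · exact absurd (by rw [h0]; decide) hl
  · refine ⟨_, ?_, hne (((orbTab.getD n.1 []).getD 0 []).reverse.map (· + 5))⟩
    have hb0 := hb 0
    rcases h1 with h1 | h1 <;> rw [h1] at hb0
    · exact hb0
    · rwa [wt_neg] at hb0
  · exfalso
    have := Weights.card_pow_le (diagAct ρ) h.sq
      (fun i : Fin 11 => moveF ((orbTab.getD n.1 []).getD i.1 []) (lamOf n.1))
      (fun i => (h11 i).1) (fun i j hij => (h11 i).2 j hij) (k := 4)
      (fun i => Weights.four_le _ h.sq (hb i.1) (hne _) (h11 i).1)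
    rw [h.card] at this
    norm_num at this

theorem card_lam0 : Nat.card (wtM ρ lam0) = 4 := by
  obtain ⟨a, ha, ha1⟩ := exists_lam0 h
  refine le_antisymm ?_ (Weights.four_le _ h.sq ha ha1 (by decide))
  have hcard := Weights.card_pow_le (diagAct ρ) h.sq (fun i : Fin 10 => lamP i.1) lamP_ne lamP_sep
    (k := Nat.card (wtM ρ lam0)) fun i => by
      refine Nat.card_le_card_of_injective (fun x => (⟨ρ (wdP (repW.getD i.1 [])) x.1,
        move_word (repW_spec i) x.2⟩ : wtM ρ (lamP i.1))) fun x y hxy => ?_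
      exact Subtype.ext ((ρ _).injective (congrArg Subtype.val hxy))
  rw [h.card, show (2 : ℕ) ^ 20 = 4 ^ 10 by norm_num] at hcard
  exact le_of_pow_le_pow_left₀ (by norm_num) (Nat.zero_le _) hcard

theorem exists_base : ∃ t ∈ wtM ρ lam0, t ≠ 1 ∧ ρ (wdP swapW) t = t := by
  obtain ⟨a, ha, ha1⟩ := exists_lam0 h
  have hw2 : ∀ x, ρ (wdP swapW) (ρ (wdP swapW) x) = x := fun x => by
    rw [← MulAut.mul_apply, ← map_mul, ← wdP_append, eq_of_eqW swapW_rel.1, wdP_nil, map_one]; rfl
  by_cases he : ρ (wdP swapW) a = a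
  · exact ⟨a, ha, ha1, he⟩
  · have hm := move_word swapW_rel.2 ha
    rw [swapW_lam, wt_neg] at hm
    exact ⟨a * ρ (wdP swapW) a, mul_mem ha hm, fun e => he (by
      rw [← inv_eq_of_mul_eq_one_right e, inv_eq_of_mul_eq_one_left (h.sq a)]),
      by rw [map_mul, hw2, mul_comm]⟩

omit [Finite M] in
theorem base_moved {t : M} (ht : t ∈ wtM ρ lam0) (ht1 : t ≠ 1) :
    ρ (wdP [2]) t ≠ t ∧ ρ (wdP [2]) t ≠ 1 ∧ t * ρ (wdP [2]) t = ρ (wdP [2, 2]) t ∧
      ρ (wdP [2, 2]) t ≠ 1 ∧ ρ (wdP [2, 2]) t ≠ t ∧ ρ (wdP [2, 2]) t ≠ ρ (wdP [2]) t := by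
  have e22 : ρ (wdP [2, 2]) t = ρ (wdP [2]) (ρ (wdP [2]) t) := by
    rw [wdP_cons, map_mul, MulAut.mul_apply]
  have hn := (ht (Pi.single 2 1)).2 (by decide)
  simp only [Weights.nrm, Weights.act, diagAct, MonoidHom.comp_apply, ofAdd_add, map_mul, MulAut.mul_apply] at hn
  rw [show dz (Multiplicative.ofAdd (Pi.single (2 : Fin 4) 1)) = wdP [2] from dz_single, ← e22] at hn
  have h1 : t * ρ (wdP [2]) t = ρ (wdP [2, 2]) t := by
    rw [eq_inv_of_mul_eq_one_left hn, inv_eq_of_mul_eq_one_left (h.sq _)]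
  have hne1 : ∀ w, ρ (wdP w) t ≠ 1 := fun w e => ht1 ((ρ (wdP w)).injective (e.trans (map_one _).symm))
  have hd : ρ (wdP [2]) t ≠ t := fun e => ht1 (by
    rw [e22, e, e, h.sq, one_mul] at hn; exact hn)
  refine ⟨hd, hne1 _, h1, hne1 _, fun e => ?_, fun e => hd ?_⟩
  · rw [← h1] at e
    exact hne1 [2] (mul_left_cancel (e.trans (mul_one t).symm))
  · rw [e22] at e
    exact (ρ (wdP [2])).injective e

theorem lam0_elems {t : M} (ht : t ∈ wtM ρ lam0) (ht1 : t ≠ 1) :
    ∀ x ∈ wtM ρ lam0, x = 1 ∨ x = t ∨ x = ρ (wdP [2]) t ∨ x = ρ (wdP [2, 2]) t := by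
  obtain ⟨hd, hd1, h12, hdd1, hddt, hddd⟩ := base_moved h ht ht1
  have hdm : ρ (wdP [2]) t ∈ wtM ρ lam0 := fun z => by
    have e : ∀ z, Weights.act (diagAct ρ) z (ρ (wdP [2]) t) =
        ρ (wdP [2]) (Weights.act (diagAct ρ) z t) := fun z => by
      simpa [Weights.act, diagAct, dz_single] using Weights.act_comm (diagAct ρ) z (Pi.single 2 1) t
    refine ⟨fun h0 => by rw [e, (ht z).1 h0], fun h0 => ?_⟩
    have h1 := (ht z).2 h0
    simp only [Weights.nrm, e] at h1 ⊢
    rw [← map_mul, ← map_mul, h1, map_one]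
  let f : Fin 4 → wtM ρ lam0 := ![1, ⟨t, ht⟩, ⟨_, hdm⟩, ⟨_, h12 ▸ mul_mem ht hdm⟩]
  have hinj : Function.Injective f := by
    intro i j hij
    have h' := congrArg Subtype.val hij
    fin_cases i <;> fin_cases j <;>
      simp [f, ht1, Ne.symm ht1, hd, Ne.symm hd, hd1, Ne.symm hd1, hdd1, Ne.symm hdd1, hddt, Ne.symm hddt,
        hddd, Ne.symm hddd] at h' ⊢
  have hbij : Function.Bijective f := (Nat.bijective_iff_injective_and_card f).2
    ⟨hinj, by rw [card_lam0 h]; simp⟩
  intro x hx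
  obtain ⟨i, hi⟩ := hbij.2 ⟨x, hx⟩
  have h' := congrArg Subtype.val hi
  fin_cases i <;> simp [f] at h' <;> simp [← h']

theorem fix_letters {t : M} (ht : t ∈ wtM ρ lam0) (ht1 : t ≠ 1) (hw : ρ (wdP swapW) t = t) :
    ∀ w : List ℕ, (∀ s ∈ w, s = 0 ∨ s = 1 ∨ s = 3 ∨ s = 5 ∨ s = 6 ∨ s = 8 ∨ s = 9 ∨ s = 11) →
      ρ (wdP (expand w)) t = t
  | [], _ => by simp [expand, wdP_nil]
  | s :: w, hl => by
    have ih := fix_letters ht ht1 hw w fun x hx => hl x (List.mem_cons_of_mem _ hx)
    have hs := hl s (List.mem_cons_self ..)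
    rw [show expand (s :: w) = (if s = 11 then swapW else [s]) ++ expand w from rfl, wdP_append, map_mul,
      MulAut.mul_apply, ih]
    have hd : ∀ j : Fin 4, dot lam0 (Pi.single j 1) = 0 → ρ (wdP [j.1]) t = t := fun j hj => by
      have := (ht (Pi.single j 1)).1 hj
      simpa [Weights.act, diagAct, dz_single] using this
    have hs' : ∀ k, (k + 5 = 5 ∨ k + 5 = 6 ∨ k + 5 = 8 ∨ k + 5 = 9) → ρ (wdP [k + 5]) t = t := fun k hk => by
      have hk5 : k < 5 := by omega
      obtain ⟨hl0, hdot⟩ := fix_lam (k + 5) (by rcases hk with e | e | e | e <;> simp [e])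
      rw [show k + 5 - 5 = k from rfl] at hl0 hdot
      have hm := move_mem hk5 ht
      rw [hl0] at hm
      have hss : ∀ x, ρ (wdP [k + 5]) (ρ (wdP [k + 5]) x) = x := fun x => by
        rw [← MulAut.mul_apply, ← map_mul, swap_sq hk5, map_one]; rfl
      obtain ⟨hd', -, -, -, hdd', hddd⟩ := base_moved h ht ht1
      have hcomm : ρ (wdP [k + 5]) (ρ (wdP [2]) t) = ρ (wdP [2]) (ρ (wdP [k + 5]) t) := by
        have e1 : Weights.act (diagAct ρ) (swapV k 2) t = Weights.act (diagAct ρ) (Pi.single 2 1) t := by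
          conv_lhs => rw [← add_sub_cancel (Pi.single 2 1) (swapV k 2), Weights.act_add,
            (ht (swapV k 2 - Pi.single 2 1)).1 (by
              rw [sub_eq_add_neg, dot_add, hdot]
              decide)]
        have e2 := swap_dz hk5 (Pi.single (2 : Fin 4) 1)
        have e3 : swapZ k (Pi.single (2 : Fin 4) 1) = swapV k 2 := by
          simp [swapZ, Pi.single_apply]
        rw [e3, dz_single] at e2
        simp only [Weights.act, diagAct, MonoidHom.comp_apply, dz_single] at e1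
        rw [← e2] at e1
        simp only [map_mul, MulAut.mul_apply] at e1
        have e4 := congrArg (ρ (wdP [k + 5])) e1
        rw [hss] at e4
        exact e4.symm
      rcases lam0_elems h ht ht1 _ hm with e | e | e | e
      · exact absurd ((ρ (wdP [k + 5])).injective (e.trans (map_one _).symm)) ht1
      · exact e
      · refine absurd ?_ hdd'
        have h2 := congrArg (ρ (wdP [k + 5])) e
        rw [hss, hcomm, e] at h2
        rw [wdP_cons, map_mul, MulAut.mul_apply]
        exact h2.symm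
      · have e22 : ρ (wdP [2, 2]) t = ρ (wdP [2]) (ρ (wdP [2]) t) := by rw [wdP_cons, map_mul, MulAut.mul_apply]
        have h222 : ρ (wdP [2]) (ρ (wdP [2]) (ρ (wdP [2]) t)) = t := by
          rw [← MulAut.mul_apply, ← MulAut.mul_apply, ← map_mul, ← map_mul, mul_assoc, ← pow_two, ← pow_succ',
            diag_cube (by norm_num), map_one]; rfl
        have h3 : ρ (wdP [k + 5]) (ρ (wdP [2]) t) = t := by rw [hcomm, e, e22, h222]
        have h4 := congrArg (ρ (wdP [k + 5])) h3
        rw [hss] at h4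
        exact absurd (e.symm.trans h4.symm) hddd
    rcases hs with rfl | rfl | rfl | rfl | rfl | rfl | rfl | rfl
    · exact hd 0 (by decide)
    · exact hd 1 (by decide)
    · exact hd 3 (by decide)
    · exact hs' 0 (by norm_num)
    · exact hs' 1 (by norm_num)
    · exact hs' 3 (by norm_num)
    · exact hs' 4 (by norm_num)
    · exact hw

omit [Finite M] in
theorem prod_bits {B : ℕ → M} {a b : ℕ} :
    (∏ k ∈ Finset.range 20, if (a ^^^ b).testBit k then B k else 1) =
      (∏ k ∈ Finset.range 20, if a.testBit k then B k else 1) *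
        ∏ k ∈ Finset.range 20, if b.testBit k then B k else 1 := by
  rw [← Finset.prod_mul_distrib]
  refine Finset.prod_congr rfl fun k _ => ?_
  rw [Nat.testBit_xor]
  cases a.testBit k <;> cases b.testBit k <;> simp [h.sq]

/-- The monomial generators act as in the model, in a suitable basis. -/
theorem exists_monFrame : ∃ β, MonFrame ρ β := by
  obtain ⟨t, ht, ht1, hw⟩ := exists_base h
  let el : ℕ → ℕ → M := fun p c => ρ (wdP (basW p c)) t
  let B : ℕ → M := fun k => el (k / 2) (k % 2)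
  let β : ℕ → M := fun v => ∏ k ∈ Finset.range 20, if v.testBit k then B k else 1
  have hom : ∀ a b, a < 2 ^ 20 → b < 2 ^ 20 → β (a ^^^ b) = β a * β b := fun a b _ _ => prod_bits h
  have hβk : ∀ k, k < 20 → β (2 ^ k) = B k := fun k hk => by
    show (∏ j ∈ Finset.range 20, if (2 ^ k).testBit j then B j else 1) = B k
    rw [Finset.prod_eq_single k]
    · simp [Nat.testBit_two_pow]
    · intro j _ hj; simp [Nat.testBit_two_pow, Ne.symm hj]
    · simp [hk]
  have hlt : ∀ p c, p < 10 → c < 3 → valC p c < 2 ^ 20 := by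
    intro p c hp hc
    interval_cases p <;> interval_cases c <;> decide
  have hel : ∀ p c, p < 10 → c < 3 → β (valC p c) = el p c := by
    intro p c hp hc
    have h0 : β (2 ^ (2 * p)) = el p 0 := by
      rw [hβk _ (by omega)]; simp [B, show 2 * p / 2 = p by omega]
    have h1 : β (2 ^ (2 * p + 1)) = el p 1 := by
      rw [hβk _ (by omega)]; simp [B, show (2 * p + 1) / 2 = p by omega, show (2 * p + 1) % 2 = 1 by omega]
    have hv : ∀ c, valC p c = (c + 1) <<< (2 * p) := fun c => rfl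
    interval_cases c
    · rw [hv, ← h0, Nat.shiftLeft_eq, zero_add, one_mul]
    · rw [hv, ← h1, Nat.shiftLeft_eq, pow_succ']
    · rw [hv, Nat.shiftLeft_eq, show (2 + 1) * 2 ^ (2 * p) = 2 ^ (2 * p) ^^^ 2 ^ (2 * p + 1) by
        interval_cases p <;> decide, hom _ _ (Nat.pow_lt_pow_right one_lt_two (by omega))
        (Nat.pow_lt_pow_right one_lt_two (by omega)), h0, h1]
      simp only [el, basW, List.replicate, List.append_nil, wdP_append, wdP_nil, mul_one, map_mul, MulAut.mul_apply]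
      rw [map_one, MulAut.one_apply, ← map_mul, (base_moved h ht ht1).2.2.1]
  have hsurj : ∀ x, ∃ v, v < 2 ^ 20 ∧ β v = x := by
    let I : Submonoid M :=
      { carrier := {x | ∃ v, v < 2 ^ 20 ∧ β v = x}
        one_mem' := ⟨0, Nat.two_pow_pos 20, by simp [β]⟩
        mul_mem' := fun {x y} ⟨a, ha, hx⟩ ⟨b, hb, hy⟩ =>
          ⟨a ^^^ b, Nat.xor_lt_two_pow ha hb, by rw [hom a b ha hb, hx, hy]⟩ }
    suffices hall : ∀ x, x ∈ I from hall
    intro x
    let F : (∀ i : Fin 10, wtM ρ (lamP i.1)) → M := fun f => ∏ i, (f i : M)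
    have hFi := Weights.prod_injective (diagAct ρ) h.sq (fun i : Fin 10 => lamP i.1) lamP_ne lamP_sep
    have hpc : ∀ i : Fin 10, Nat.card (wtM ρ (lamP i.1)) ≥ 4 := fun i =>
      Weights.four_le _ h.sq (move_word (repW_spec i) ht) (fun e => ht1 ((ρ _).injective (e.trans (map_one _).symm)))
        (lamP_ne i)
    have hle : ∀ i : Fin 10, Nat.card (wtM ρ (lamP i.1)) ≤ 4 := by
      intro i
      by_contra hlt
      push Not at hlt
      have h1 := Nat.card_le_card_of_injective _ hFi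
      rw [Nat.card_pi, h.card] at h1
      have h2 : ∏ _j : Fin 10, 4 < ∏ j : Fin 10, Nat.card (wtM ρ (lamP j.1)) :=
        Finset.prod_lt_prod (fun _ _ => by norm_num) (fun j _ => hpc j) ⟨i, Finset.mem_univ i, hlt⟩
      rw [Finset.prod_const, Finset.card_univ, Fintype.card_fin, show (4 : ℕ) ^ 10 = 2 ^ 20 by norm_num] at h2
      exact absurd h1 (not_le.2 h2)
    have hbij : Function.Bijective F := (Nat.bijective_iff_injective_and_card F).2 ⟨hFi, by
      rw [Nat.card_pi, h.card, Finset.prod_congr rfl fun i _ => le_antisymm (hle i) (hpc i)]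
      norm_num⟩
    obtain ⟨f, rfl⟩ := hbij.2 x
    refine prod_mem fun i _ => ?_
    have hbij2 : Function.Bijective (fun a : wtM ρ lam0 =>
        (⟨ρ (wdP (repW.getD i.1 [])) a, move_word (repW_spec i) a.2⟩ : wtM ρ (lamP i.1))) :=
      (Nat.bijective_iff_injective_and_card _).2 ⟨fun a b hab => Subtype.ext ((ρ _).injective
        (congrArg Subtype.val hab)), by rw [card_lam0 h, le_antisymm (hle i) (hpc i)]⟩
    obtain ⟨a, ha⟩ := hbij2.2 (f i)
    rw [← ha]
    have hin : ∀ c, c < 3 → el i.1 c ∈ I := fun c hc => ⟨valC i.1 c, hlt _ _ i.2 hc, hel _ _ i.2 hc⟩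
    rcases lam0_elems h ht ht1 a.1 a.2 with e | e | e | e
    · simpa [e] using I.one_mem
    · simpa [e, el, basW] using hin 0 (by norm_num)
    · simpa [e, el, basW, wdP_append, List.replicate] using hin 1 (by norm_num)
    · simpa [e, el, basW, wdP_append, List.replicate] using hin 2 (by norm_num)
  have hbij : Function.Bijective fun v : Fin (2 ^ 20) => β v.1 := by
    refine (Nat.bijective_iff_surjective_and_card _).2 ⟨fun x => ?_, by simp [h.card]⟩
    obtain ⟨v, hv, e⟩ := hsurj x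
    exact ⟨⟨v, hv⟩, e⟩
  refine ⟨β, hom, fun a b ha hb e => congrArg Fin.val (hbij.1 (a₁ := ⟨a, ha⟩) (a₂ := ⟨b, hb⟩) e), hsurj, ?_⟩
  intro k hk v hv
  refine ext_units (f := fun v => ρ (wdP [k]) (β v)) (g := fun v => β (app (modOf k) v)) ?_ ?_ ?_ ?_ hv
  · simp [app_zero, β]
  · intro a b ha hb; simp only [hom a b ha hb, map_mul]
  · intro a b ha hb; simp only [app_xor, hom _ _ (app_lt _ _) (app_lt _ _)]
  · intro i hi
    have hrel := mon_rel
    simp only [allBelow_eq_true, Bool.and_eq_true, Nat.beq_eq] at hrel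
    obtain ⟨h1, h2⟩ := hrel k hk i hi
    obtain ⟨hp, hc⟩ := mon_range ⟨k, hk⟩ ⟨i, hi⟩
    rw [app_two_pow _ hi, h2, hel _ _ hp hc, hβk i hi]
    show ρ (wdP [k]) (ρ (wdP (basW (i / 2) (i % 2))) t) = _
    rw [← MulAut.mul_apply, ← map_mul, ← wdP_cons, eq_of_eqW h1, wdP_append, map_mul, MulAut.mul_apply,
      fix_letters h ht ht1 hw _ (mon_letters ⟨k, hk⟩ ⟨i, hi⟩)]

end Cfsg.Agent.U62Mod
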