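/-! Data: the orbits on the vectors. -/

set_option autoImplicit false
set_option maxRecDepth 100000

namespace Cfsg.Agent.U62Mod

/-- Each generator as a product of transvections. -/
def opsTab : List (List (Nat × Nat)) := [
  [(19, 18), (18, 19), (17, 16), (16, 17), (15, 14), (14, 15), (13, 12), (12, 13), (11, 10), (10, 11), (9, 8), (8, 9)],
  [(12, 13), (13, 12), (10, 11), (11, 10), (8, 9), (9, 8), (7, 6), (6, 7), (5, 4), (4, 5), (3, 2), (2, 3)],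
  [(16, 17), (17, 16), (14, 15), (15, 14), (13, 12), (12, 13), (11, 10), (10, 11), (2, 3), (3, 2), (1, 0), (0, 1)],
  [(18, 19), (19, 18), (17, 16), (16, 17), (10, 11), (11, 10), (9, 8), (8, 9), (4, 5), (5, 4), (3, 2), (2, 3)],
  [(19, 18), (18, 19), (17, 16), (16, 17), (15, 14), (14, 15), (12, 13), (13, 12), (10, 11), (11, 10), (8, 9), (9, 8), (6, 7), (7, 6), (4, 5), (5, 4), (2, 3), (3, 2)],
  [(18, 19), (9, 19), (8, 19), (8, 18), (16, 17), (11, 17), (10, 17), (10, 16), (14, 15), (13, 15), (12, 15), (12, 14), (15, 13), (12, 13), (13, 15), (14, 12), (12, 14), (17, 11), (10, 11), (11, 17), (16, 10), (10, 16), (19, 9), (8, 9), (9, 19), (18, 8), (8, 18)],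
  [(7, 13), (6, 12), (5, 11), (4, 10), (3, 9), (2, 8), (13, 7), (7, 13), (12, 6), (6, 12), (11, 5), (5, 11), (10, 4), (4, 10), (9, 3), (3, 9), (8, 2), (2, 8)],
  [(13, 17), (12, 16), (11, 15), (10, 14), (17, 13), (13, 17), (16, 12), (12, 16), (15, 11), (11, 15), (14, 10), (10, 14), (1, 3), (0, 2), (3, 1), (1, 3), (2, 0), (0, 2)],
  [(17, 19), (16, 18), (19, 17), (17, 19), (18, 16), (16, 18), (9, 11), (8, 10), (11, 9), (9, 11), (10, 8), (8, 10), (3, 5), (2, 4), (5, 3), (3, 5), (4, 2), (2, 4)],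
  [(15, 17), (14, 16), (17, 15), (15, 17), (16, 14), (14, 16), (11, 13), (10, 12), (13, 11), (11, 13), (12, 10), (10, 12), (5, 7), (4, 6), (7, 5), (5, 7), (6, 4), (4, 6)],
  [(9, 19), (8, 19), (3, 19), (2, 19), (8, 18), (2, 18), (11, 17), (10, 17), (5, 17), (4, 17), (10, 16), (4, 16), (13, 15), (12, 15), (7, 15), (6, 15), (12, 14), (6, 14), (15, 13), (6, 13), (15, 12), (14, 12), (13, 12), (7, 12), (6, 12), (12, 13), (17, 11), (4, 11), (17, 10), (16, 10), (11, 10), (5, 10), (4, 10), (10, 11), (19, 9), (2, 9), (19, 8), (18, 8), (9, 8), (3, 8), (2, 8), (8, 9), (15, 7), (12, 7), (6, 7), (14, 6), (13, 6), (7, 6), (17, 5), (10, 5), (4, 5), (16, 4), (11, 4), (5, 4), (19, 3), (8, 3), (2, 3), (18, 2), (9, 2), (3, 2)]]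

/-- Representatives of the orbits. -/
def repTab : List Nat := [0x1, 0x5, 0x111, 0x115, 0x514]

/-- Generators saturating each orbit. -/
def satTab : List (List Nat) := [
  [2, 7, 2, 6, 8, 10, 7, 2, 10, 1, 8, 9, 10, 7, 8, 10, 2, 7, 10, 0, 8, 6, 7, 9, 10, 2, 8, 7, 10, 1, 2, 9, 10, 7, 8, 1, 0],
  [1, 2, 6, 8, 10, 2, 7, 10, 9, 1, 8, 6, 7, 2, 10, 0, 8, 6, 7, 10, 2, 1, 10, 0, 7, 10, 0],
  [0, 1, 2, 5, 6, 7, 9, 10, 2, 8, 7, 10, 0, 2, 6, 8, 7, 10, 1, 9, 2, 10, 8, 7, 0, 6, 10, 3],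
  [0, 1, 2, 3, 5, 6, 8, 9, 10, 7, 2, 8, 4, 10, 7, 6, 0, 10, 2, 7, 8, 9, 10, 1, 7, 10, 2, 8],
  [0, 1, 2, 5, 7, 9, 4, 10, 8, 2, 10, 3, 4]]

end Cfsg.Agent.U62Mod
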