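import Cfsg.Agent.U62Mod.Bits
import Cfsg.Agent.U62Mod.OrbitData
import Cfsg.Agent.U62Mod.Check

/-!
# The five orbits on the vectors

Each is grown by preimages under the generators; together they exhaust the nonzero vectors.
-/

set_option autoImplicit false
set_option maxRecDepth 100000

namespace Cfsg.Agent.U62Mod

open Cfsg.Agent.Compute Cfsg.Agent.StemCert

/-- The preimage of a set under a generator. -/
noncomputable def pullG (k S : ℕ) : ℕ := pullP (opsTab.getD k []) S

/-- Saturation along a list of generators. -/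
noncomputable def satO (l : List ℕ) (S : ℕ) : ℕ :=
  List.rec (motive := fun _ => ℕ) S (fun k _ r => forceN r fun R => Nat.lor R (pullG k R)) l

/-- The orbit of a representative. -/
noncomputable def orbO (s : ℕ) : ℕ := satO ((satTab.getD s []).reverse) (Nat.shiftLeft 1 (repTab.getD s 0))

theorem ops_lt : ∀ k : Fin 11, ∀ p ∈ opsTab.getD k.1 [], p.1 < 20 ∧ p.2 < 20 ∧ p.1 ≠ p.2 := by
  decide +kernel

theorem ops_units : (allBelow 11 fun k => allBelow 20 fun i =>
    Nat.beq (opsV (opsTab.getD k []) (Nat.shiftLeft 1 i)) (getField 20 (modOf k) i)) = true := by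
  decide +kernel

theorem sat_lt : ∀ s : Fin 5, ∀ k ∈ satTab.getD s.1 [], k < 11 := by decide +kernel

theorem orbit_cover :
    Nat.beq (Nat.lor (orbO 0) (Nat.lor (orbO 1) (Nat.lor (orbO 2) (Nat.lor (orbO 3) (orbO 4)))))
      (Nat.xor fullM 1) = true := by
  decide +kernel

theorem orbit_zero : (forceN (orbO 0) fun R =>
    Nat.beq (popN R) 295680 && Nat.beq (Nat.land R fullM) R && allBelow 11 fun k => Nat.beq (pullG k R) R) = true := by
  decide +kernel

theorem app_modW_append (a b : List ℕ) {v : ℕ} (hv : v < 2 ^ 20) :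
    app (modW (a ++ b)) v = app (modW a) (app (modW b) v) := by
  induction a with
  | nil => exact (app_idM (app_lt _ _)).symm
  | cons k a ih =>
    show app (mulM (modOf k) (modW (a ++ b))) v = app (mulM (modOf k) (modW a)) _
    rw [app_mulM _ _ hv, app_mulM _ _ (app_lt _ _), ih]

theorem app_modW_one (k : ℕ) {v : ℕ} (hv : v < 2 ^ 20) : app (modW [k]) v = app (modOf k) v := by
  show app (mulM (modOf k) idM) v = _
  rw [app_mulM _ _ hv, app_idM hv]

theorem opsV_xor : ∀ (l : List (ℕ × ℕ)) (a b : ℕ), opsV l (a ^^^ b) = opsV l a ^^^ opsV l b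
  | [], _, _ => rfl
  | p :: l, a, b => by
    show opsV l (opV p (a ^^^ b)) = opsV l (opV p a) ^^^ opsV l (opV p b)
    rw [← opsV_xor l]
    congr 1
    simp only [opV, bitB_eq, Nat.testBit_xor, natXor]
    cases a.testBit p.2 <;> cases b.testBit p.2 <;>
      simp [Nat.xor_assoc, Nat.xor_comm, Nat.xor_left_comm]

theorem opsV_eq {k : ℕ} (hk : k < 11) {v : ℕ} (hv : v < 2 ^ 20) :
    opsV (opsTab.getD k []) v = app (modOf k) v := by
  have h := ops_units
  simp only [allBelow_eq_true, Nat.beq_eq] at h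
  refine app_ext _ (fun a b _ _ => opsV_xor _ a b) (fun i hi => ?_) hv
  rw [app_two_pow _ hi, ← h k hk i hi, natShl, Nat.one_shiftLeft]

theorem pullG_spec {k : ℕ} (hk : k < 11) (S : ℕ) {v : ℕ} (hv : v < 2 ^ 20) :
    (pullG k S).testBit v = S.testBit (app (modOf k) v) := by
  rw [pullG, pullP_spec (fun p hp => ops_lt ⟨k, hk⟩ p hp) S hv, opsV_eq hk hv]

/-- Some word moves `v` to the representative. -/
def Reach (s v : ℕ) : Prop :=
  ∃ w : List ℕ, (∀ x ∈ w, x < 11) ∧ app (modW w) v = repTab.getD s 0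

theorem satO_sound {s : ℕ} {S : ℕ} (h : ∀ v, v < 2 ^ 20 → S.testBit v = true → Reach s v) :
    ∀ l : List ℕ, (∀ k ∈ l, k < 11) → ∀ v, v < 2 ^ 20 → (satO l S).testBit v = true → Reach s v
  | [], _ => h
  | k :: l, hl => fun v hv hb => by
    have ih := satO_sound h l fun x hx => hl x (List.mem_cons_of_mem _ hx)
    change (forceN (satO l S) fun R => Nat.lor R (pullG k R)).testBit v = true at hb
    rw [forceN_eq, natOr, Nat.testBit_or, Bool.or_eq_true] at hb
    rcases hb with hb | hb
    · exact ih v hv hb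
    · rw [pullG_spec (hl k (List.mem_cons_self ..)) _ hv] at hb
      obtain ⟨w, hw, he⟩ := ih _ (app_lt _ _) hb
      refine ⟨w ++ [k], fun x hx => ?_, ?_⟩
      · rcases List.mem_append.1 hx with hx | hx
        exacts [hw x hx, by rw [List.mem_singleton.1 hx]; exact hl k (List.mem_cons_self ..)]
      · rw [app_modW_append _ _ hv, app_modW_one _ hv, he]

theorem rep_lt : ∀ s : Fin 5, repTab.getD s.1 0 < 2 ^ 20 := by decide +kernel

theorem orbO_sound {s : ℕ} (hs : s < 5) : ∀ v, v < 2 ^ 20 → (orbO s).testBit v = true → Reach s v := by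
  refine satO_sound (fun v hv hb => ⟨[], by simp, ?_⟩) _ fun k hk =>
    sat_lt ⟨s, hs⟩ k (List.mem_reverse.1 hk)
  rw [natShl, Nat.one_shiftLeft, Nat.testBit_two_pow, decide_eq_true_eq] at hb
  rw [hb]
  exact app_idM hv

theorem exists_reach {v : ℕ} (hv : v < 2 ^ 20) (h0 : v ≠ 0) : ∃ s, s < 5 ∧ Reach s v := by
  have h := congrArg (fun S => S.testBit v) (Nat.eq_of_beq_eq_true orbit_cover)
  have h1 : (1 : ℕ).testBit v = false := Nat.testBit_lt_two_pow (Nat.one_lt_two_pow h0)
  simp only [natOr, natXor, Nat.testBit_or, Nat.testBit_xor, h1, fullM, fullN_spec, hv, decide_true,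
    Bool.xor_false, Bool.or_eq_true] at h
  rcases h with h | h | h | h | h
  exacts [⟨0, by omega, orbO_sound (by omega) v hv h⟩, ⟨1, by omega, orbO_sound (by omega) v hv h⟩,
    ⟨2, by omega, orbO_sound (by omega) v hv h⟩, ⟨3, by omega, orbO_sound (by omega) v hv h⟩,
    ⟨4, by omega, orbO_sound (by omega) v hv h⟩]

theorem orbO_zero_closed {k : ℕ} (hk : k < 11) {v : ℕ} (hv : v < 2 ^ 20) :
    (orbO 0).testBit (app (modOf k) v) = (orbO 0).testBit v := by
  have h := orbit_zero
  simp only [forceN_eq, Bool.and_eq_true, allBelow_eq_true, Nat.beq_eq] at h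
  rw [← pullG_spec hk _ hv, h.2 k hk]

theorem orbO_zero_card :
    ((Finset.range (2 ^ 20)).filter fun v => (orbO 0).testBit v = true).card = 295680 := by
  have h := orbit_zero
  simp only [forceN_eq, Bool.and_eq_true, allBelow_eq_true, Nat.beq_eq] at h
  rw [← popN_spec (Nat.lt_pow_two_of_testBit _ fun v hv => ?_), h.1.1]
  rw [← h.1.2, natAnd, Nat.testBit_and, fullM, fullN_spec, decide_eq_false (not_lt.2 hv), Bool.and_false]

end Cfsg.Agent.U62Mod
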